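import Groth.Agent.Lib.SmCurveFam.DegreeOneGen
import Groth.Agent.Lib.PicSep26.Separated
import Groth.Agent.Lib.GrowthBd20.Base
import Groth.Agent.Lib.FibreBC.Basic
import Groth.Prelude.Def_AbDual

/-!
# The Abel map of a family of curves of positive genus is a monomorphism
-/

set_option autoImplicit false
set_option linter.style.haveILetI false
set_option backward.isDefEq.respectTransparency false
set_option maxHeartbeats 1000000

universe u

open CategoryTheory CategoryTheory.Limits AlgebraicGeometry TopologicalSpace Opposite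
open GrothLib.Cube (clsMod pull)

noncomputable section

namespace GrothLib.SmCurveFam

/-- Morphisms agreeing on an fppf covering are equal. -/
theorem eq_of_fppf {T Z : Scheme.{u}} {R : Presieve T} (hR : R ∈ Scheme.fppfPrecoverage T) (a b : T ⟶ Z)
    (h : ∀ ⦃U : Scheme.{u}⦄ (u : U ⟶ T), R u → u ≫ a = u ≫ b) : a = b := by
  obtain ⟨ι, Y, g, rfl⟩ := R.exists_eq_ofArrows
  obtain ⟨h1, h2⟩ := (Scheme.ofArrows_mem_precoverage_iff _).mp hR
  choose i hi using h1
  let p : (∐ fun t : T => Y (i t)) ⟶ T := Sigma.desc fun t => g (i t)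
  haveI : Flat p := IsZariskiLocalAtSource.sigmaDesc fun t => (h2 (i t)).1
  haveI : Surjective p := ⟨fun t => by
    obtain ⟨y, hy⟩ := hi t
    exact ⟨Sigma.ι (fun t : T => Y (i t)) t y, by rw [← Scheme.Hom.comp_apply, Sigma.ι_desc]; exact hy⟩⟩
  haveI := Flat.epi_of_flat_of_surjective p
  refine (cancel_epi p).1 (Sigma.hom_ext _ _ fun t => ?_)
  rw [Sigma.ι_desc_assoc, Sigma.ι_desc_assoc]
  exact h _ (Presieve.ofArrows.mk _)

variable {C S : Scheme.{u}} (f : C ⟶ S) [IsProper f] [Smooth f] [GeometricallyConnected f]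
  (hdim : ∀ s : S, topologicalKrullDim ↥(f.fiber s) = 1)
  (hg : ∀ s : S, 1 ≤ CohIII.fiberRank f (Coh.structureModule C) 1 s)

include hdim hg in
/-- The hypotheses on a family of curves are stable under base change. -/
theorem hyps_baseChange {C' S' : Scheme.{u}} {b : S' ⟶ S} {f' : C' ⟶ S'} {b' : C' ⟶ C} (hsq : IsPullback b' f' f b) :
    (∀ s : S', topologicalKrullDim ↥(f'.fiber s) = 1) ∧
      ∀ s : S', 1 ≤ CohIII.fiberRank f' (Coh.structureModule C') 1 s := by
  haveI : IsProper f' := MorphismProperty.of_isPullback (P := @IsProper) hsq inferInstance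
  haveI : Smooth f' := MorphismProperty.of_isPullback (P := @Smooth) hsq inferInstance
  haveI : GeometricallyConnected f' := MorphismProperty.of_isPullback (P := @GeometricallyConnected) hsq inferInstance
  refine ⟨fun s => ?_, fun s => ?_⟩
  · rw [FibreBC.topologicalKrullDim_fiber hsq s]
    exact hdim _
  · haveI : (Coh.structureModule C).IsQuasicoherent :=
      InvExt.isQuasicoherent_of_isInvertible Euler.isInvertible_structure
    refine (hg (b s)).trans_eq ((GrowthBd.fiberRank_baseChange hsq (Coh.structureModule C) 1 s).symm.trans ?_)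
    obtain ⟨e⟩ := Ample.nonempty_pullback_structureModule b'
    exact ((fiberRank_congr f' _ 1 s ((Scheme.Modules.pullback (f'.fiberι s)).mapIso e)).1)

include hdim in
/-- The inverse of the ideal of the diagonal restricts to the inverse of the ideal of a point. -/
theorem isInverseOf_restrict {U : Scheme.{u}} {π : pullback f f ⟶ C} (hπ : π = pullback.snd f f)
    {LΔ : (pullback f f).Modules} (hLΔ : PicF.IsInvertible LΔ)
    (hΔ : ClSub.IsInverseOf LΔ (ClSub.idealMod (pullback.diagonal f).ker))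
    (h : U ⟶ C) {XU : Scheme.{u}} {prU : XU ⟶ U} {m : XU ⟶ pullback f f} (hsq : IsPullback m prU π h)
    (x : U ⟶ XU) (hx : x ≫ prU = 𝟙 U) (hxm : x ≫ m = h ≫ pullback.diagonal f) :
    ClSub.IsInverseOf ((Scheme.Modules.pullback m).obj LΔ) (ClSub.idealMod x.ker) := by
  subst hπ
  haveI : IsProper (pullback.snd f f) := inferInstance
  haveI : GeometricallyConnected (pullback.snd f f) := inferInstance
  haveI : Smooth (pullback.snd f f) := inferInstance
  haveI : IsProper prU := MorphismProperty.of_isPullback (P := @IsProper) hsq inferInstance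
  haveI : Smooth prU := MorphismProperty.of_isPullback (P := @Smooth) hsq inferInstance
  haveI : GeometricallyConnected prU := MorphismProperty.of_isPullback (P := @GeometricallyConnected) hsq inferInstance
  have hd₂ : ∀ c : C, topologicalKrullDim ↥((pullback.snd f f).fiber c) = 1 := fun c => by
    rw [FibreBC.topologicalKrullDim_fiber (IsPullback.of_hasPullback f f) c]
    exact hdim _
  have hdU : ∀ z : U, topologicalKrullDim ↥(prU.fiber z) = 1 := fun z => by
    rw [FibreBC.topologicalKrullDim_fiber hsq z]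
    exact hd₂ _
  have hI := IdealModSec.isInvertible_of_isEffCartier
    (isEffCartier_section (pullback.snd f f) hd₂ (pullback.diagonal f) (pullback.diagonal_snd f))
  have hJ := IdealModSec.isInvertible_of_isEffCartier (isEffCartier_section prU hdU x hx)
  haveI : IsClosedImmersion x := by
    haveI : IsClosedImmersion (x ≫ prU) := by rw [hx]; infer_instance
    exact IsClosedImmersion.of_comp x prU
  have hQ : IsPullback h x (pullback.diagonal f) m := by
    refine IsPullback.of_bot ?_ hxm.symm hsq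
    rw [hx, pullback.diagonal_snd]
    exact IsPullback.of_vert_isIso ⟨by simp⟩
  have hker : x.ker = (pullback.diagonal f).ker.comap m := by
    rw [← hQ.flip.isoPullback_hom_fst, Scheme.Hom.ker_comp_of_isIso,
      Scheme.IdealSheafData.ker_fst_of_isClosedImmersion]
  obtain ⟨e⟩ := HodgeIndex.nonempty_pullback_idealMod (pullback.diagonal f) x h m hxm hker hI hJ
  have hL' := Ample.isInvertible_pullback m hLΔ
  have hI' := Ample.isInvertible_pullback m hI
  have hcls : clsMod hL' * clsMod hJ = 1 := by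
    rw [← (Cube.clsMod_eq_iff hI' hJ).2 ⟨e⟩, Cube.clsMod_pullback _ hI, Cube.clsMod_pullback _ hLΔ, ← map_mul,
      Cube.clsMod_eq_inv_of_isInverseOf hLΔ hI hΔ, inv_mul_cancel, map_one]
  exact (Cube.clsMod_eq_one_iff (Ample.isInvertible_tensorMod hL' hJ)).1 ((Cube.clsMod_tensorMod hL' hJ).trans hcls)

include hdim hg in
/-- The Abel map is a monomorphism. -/
theorem mono_abelMap (P : Over S) (φ : ∀ T : Over S, PicF.Cl (PicF.XT f T) → (T ⟶ P))
    (hP : AbDual.IsRelPicK Scheme.fppfPrecoverage f P φ)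
    (LΔ : (PicF.XT f (Over.mk f)).Modules) (hLΔ : PicF.IsInvertible LΔ)
    (hΔ : ClSub.IsInverseOf LΔ (ClSub.idealMod (pullback.diagonal f).ker)) :
    Mono (φ (Over.mk f) (PicF.cl LΔ)).left := by
  let A := φ (Over.mk f) (PicF.cl LΔ)
  refine ⟨fun {Z} a b hab => ?_⟩
  have hf : a ≫ f = b ≫ f := by
    have h1 : a ≫ A.left ≫ P.hom = b ≫ A.left ≫ P.hom := by
      rw [← Category.assoc, hab, Category.assoc]
    rwa [Over.w A] at h1
  let T : Over S := Over.mk (a ≫ f)
  let ga : T ⟶ Over.mk f := Over.homMk a rfl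
  let gb : T ⟶ Over.mk f := Over.homMk b hf.symm
  have heq : φ T (PicF.pullCl (PicF.XTmap f ga) (PicF.cl LΔ)) = φ T (PicF.pullCl (PicF.XTmap f gb) (PicF.cl LΔ)) := by
    rw [hP.natural _ _ ga _ ⟨LΔ, rfl, hLΔ⟩, hP.natural _ _ gb _ ⟨LΔ, rfl, hLΔ⟩]
    exact Over.OverMorphism.ext hab
  obtain ⟨R, hR, hRu⟩ := hP.locallyInjective T _ _
    ⟨_, rfl, Ample.isInvertible_pullback (PicF.XTmap f ga) hLΔ⟩
    ⟨_, rfl, Ample.isInvertible_pullback (PicF.XTmap f gb) hLΔ⟩ heq
  refine eq_of_fppf hR a b fun U u hu => ?_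
  let T' := AbDual.ovr T u
  let ψ := AbDual.ovrHom T u
  let π := pullback.snd f T'.hom
  obtain ⟨i⟩ := PicSep26.cl_eq_iff.1 (hRu u hu)
  obtain ⟨hdim', hg'⟩ := hyps_baseChange f hdim hg (IsPullback.of_hasPullback f T'.hom)
  -- the two sections
  have hau : (u ≫ a) ≫ f = T'.hom := Category.assoc _ _ _
  have hbu : (u ≫ b) ≫ f = T'.hom := by rw [Category.assoc, ← hf]; exact rfl
  let xa : U ⟶ PicF.XT f T' := pullback.lift (u ≫ a) (𝟙 U) (by rw [hau]; exact (Category.id_comp _).symm)
  let xb : U ⟶ PicF.XT f T' := pullback.lift (u ≫ b) (𝟙 U) (by rw [hbu]; exact (Category.id_comp _).symm)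
  have hxa : xa ≫ π = 𝟙 U := pullback.lift_snd _ _ _
  have hxb : xb ≫ π = 𝟙 U := pullback.lift_snd _ _ _
  have key : ∀ (c : Z ⟶ C) (gc : T ⟶ Over.mk f), gc.left = c →
      ∀ (xc : U ⟶ PicF.XT f T'), xc ≫ π = 𝟙 U → xc ≫ pullback.fst f T'.hom = u ≫ c →
      ClSub.IsInverseOf ((Scheme.Modules.pullback (PicF.XTmap f ψ)).obj
        ((Scheme.Modules.pullback (PicF.XTmap f gc)).obj LΔ)) (ClSub.idealMod xc.ker) := by
    intro c gc hgc xc h1 h2
    have hinv := Ample.isInvertible_pullback (PicF.XTmap f gc) hLΔ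
    have hfac : PicF.XTmap f ψ ≫ PicF.XTmap f gc = PicF.XTmap f (ψ ≫ gc) := by
      refine pullback.hom_ext ?_ ?_
      · simp [PicF.XTmap]
      · simp [PicF.XTmap]
    have m1 : PicF.XTmap f (ψ ≫ gc) ≫ pullback.fst f f = pullback.fst f T'.hom :=
      (pullback.lift_fst _ _ _).trans (Category.comp_id _)
    have m2 : PicF.XTmap f (ψ ≫ gc) ≫ pullback.snd f f = π ≫ (ψ ≫ gc).left := pullback.lift_snd _ _ _
    have hI2 := isInverseOf_restrict f hdim (π := PicF.XTproj f (Over.mk f)) rfl hLΔ hΔ (ψ ≫ gc).left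
      (PicSep26.isPullback_XTmap f (ψ ≫ gc)) xc h1 (by
        refine pullback.hom_ext ?_ ?_
        · rw [Category.assoc, Category.assoc, pullback.diagonal_fst]
          erw [m1]
          rw [h2]
          exact (by simp [ψ, hgc] : u ≫ c = (ψ ≫ gc).left).trans (Category.comp_id _).symm
        · rw [Category.assoc, Category.assoc, pullback.diagonal_snd]
          erw [m2]
          rw [← Category.assoc, h1]
          exact (Category.id_comp (ψ ≫ gc).left).trans (Category.comp_id (ψ ≫ gc).left).symm)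
    obtain ⟨e⟩ := hI2
    refine ⟨(show CohB1.tensorMod _ _ ≅ CohB1.tensorMod _ _ from
      Ample.LineData.tensorModMapIso ((Scheme.Modules.pullbackComp _ _).app LΔ ≪≫
        (Scheme.Modules.pullbackCongr hfac).app LΔ) (Iso.refl _)) ≪≫ e⟩
  obtain ⟨ea⟩ := key a ga rfl xa hxa (pullback.lift_fst _ _ _)
  have hinva := Ample.isInvertible_pullback (PicF.XTmap f ψ) (Ample.isInvertible_pullback (PicF.XTmap f ga) hLΔ)
  obtain ⟨eb⟩ := key b gb rfl xb hxb (pullback.lift_fst _ _ _)
  have hx : xb = xa := section_unique π hdim' hg' xa hxa hinva ⟨ea⟩ xb hxb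
    ⟨(show CohB1.tensorMod _ _ ≅ CohB1.tensorMod _ _ from Ample.LineData.tensorModMapIso i (Iso.refl _)) ≪≫ eb⟩
  have h := congrArg (fun t => t ≫ pullback.fst f T'.hom) hx
  simp only [xa, xb, pullback.lift_fst] at h
  exact h.symm

end GrothLib.SmCurveFam
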