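import Groth.Agent.Lib.CurveMult.OmegaField
import Groth.Agent.Lib.Euler.Slope
import Groth.Agent.Lib.CurveRR.Main
import Groth.Agent.Lib.CurveRR.Tensor
import Groth.Agent.Lib.CurveRR.Stable
import Groth.Agent.Lib.Ample.Functorial

/-!
# Cohomology of the powers of the differentials of a smooth curve over any field
-/

set_option autoImplicit false
set_option linter.style.haveILetI false
set_option backward.isDefEq.respectTransparency false

universe u

open CategoryTheory CategoryTheory.Limits AlgebraicGeometry TopologicalSpace Opposite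
open GrothLib.CurveRR
open _root_.FunFld (Divisor)

noncomputable section

namespace GrothLib.SmCurveFam

variable (k : Type u) [Field k] {X : Scheme.{u}} [IsIntegral X] [RegCurve X] [X.Over (Spec (CommRingCat.of k))]
  [IsProper (X ↘ Spec (CommRingCat.of k))]

include k in
/-- Invertible modules of degree above `2g - 2` have no first cohomology, over any field. -/
theorem subsingleton_H1_of_deg_gt (h0 : Module.finrank k (Coh.HH X (Coh.structureModule X) 0) = 1)
    {M : X.Modules} (hM : PicF.IsInvertible M)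
    (h : 2 * (Curv2.genus k X : ℤ) - 2 < Curv2.deg k X M 1) : Subsingleton (Coh.HH X M 1) := by
  have hK := CurveRR.isFunctionField k h0
  obtain ⟨K, hKc⟩ := FunFld.exists_isCanonical hK
  have hKd := CurveRR.deg_canonical k hK hKc
  rw [← CurveRR.genus_eq k h0] at hKd
  obtain ⟨D, -, hD, -, hh1⟩ := CurveRR.exists_divisor k h0 hKc hM
  haveI := Euler.isNoetherian_of_proper (X := X) k
  haveI := Euler.finiteDimensional_HH k (Euler.isCoh_of_isInvertible hM) 1
  exact Module.finrank_zero_iff.1 (hh1.trans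
    (FunFld.IsFG.ell_eq_zero_of_deg_neg hK.1 (by rw [FunFld.deg_sub]; omega)))

include k in
/-- The degree of a power of an invertible module. -/
theorem deg_tensorPow {L : X.Modules} (hL : PicF.IsInvertible L) (n : ℕ) :
    Curv2.deg k X (CohB1.tensorPow L n) 1 = n * Curv2.deg k X L 1 := by
  obtain ⟨D, ⟨e⟩⟩ := CurveRR.exists_iso_oD k hL
  obtain ⟨e'⟩ := CurveRR.nonempty_tensorPow_iso k e n
  rw [Euler.deg_of_iso k e', Euler.deg_of_iso k e, CurveRR.deg_oD, CurveRR.deg_oD]
  clear e e'
  induction n with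
  | zero => simp [FunFld.deg_zero]
  | succ n ih => rw [add_smul, one_smul, FunFld.deg_add, ih]; push_cast; ring

end GrothLib.SmCurveFam

namespace GrothLib.SmCurveFam

variable (k : Type u) [Field k] {X : Scheme.{u}} [X.Over (Spec (CommRingCat.of k))]
  [IsProper (X ↘ Spec (CommRingCat.of k))] [Smooth (X ↘ Spec (CommRingCat.of k))]
  [GeometricallyConnected (X ↘ Spec (CommRingCat.of k))]

/-- The cohomology of the differentials of a smooth curve. -/
theorem omega_cohom (hdim : topologicalKrullDim X = 1) :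
    Module.finrank k (Coh.HH X (Omega.sheaf (X ↘ Spec (CommRingCat.of k))) 0) = Curv2.genus k X ∧
      Module.finrank k (Coh.HH X (Omega.sheaf (X ↘ Spec (CommRingCat.of k))) 1) = 1 := by
  obtain ⟨hint, h0⟩ := CurveMult.OmegaField.integral_and_h0 k X
  haveI := regCurve_of_smooth (X ↘ Spec (CommRingCat.of k)) hdim
  obtain ⟨h1, h2⟩ := CurveMult.OmegaField.finrank_deg_omega k hdim h0
  haveI := OmegaSheaf.isQuasicoherent_sheaf (X ↘ Spec (CommRingCat.of k))
  have h3 := Euler.euler_eq_sub (X := X) k hdim.le (Omega.sheaf (X ↘ Spec (CommRingCat.of k)))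
  have h4 := Euler.euler_structure (X := X) k hdim.le
  simp only [Curv2.deg, Nat.cast_one, one_mul] at h2
  rw [h0] at h4
  exact ⟨h1, by omega⟩

/-- The cohomology of the higher powers of the differentials of a smooth curve of genus `≥ 2`. -/
theorem omegaPow_cohom (hdim : topologicalKrullDim X = 1) (g : ℕ) (hg : 2 ≤ g)
    (hgen : Curv2.genus k X = g) (n : ℕ) (hn : 2 ≤ n) :
    Subsingleton (Coh.HH X (CohB1.tensorPow (Omega.sheaf (X ↘ Spec (CommRingCat.of k))) n) 1) ∧
      Module.finrank k (Coh.HH X (CohB1.tensorPow (Omega.sheaf (X ↘ Spec (CommRingCat.of k))) n) 0) =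
        (2 * n - 1) * (g - 1) := by
  obtain ⟨hint, h0⟩ := CurveMult.OmegaField.integral_and_h0 k X
  haveI := regCurve_of_smooth (X ↘ Spec (CommRingCat.of k)) hdim
  obtain ⟨-, h2⟩ := CurveMult.OmegaField.finrank_deg_omega k hdim h0
  have hΩ := CurveMult.OmegaField.isInvertible k (X := X)
  have hM := Ample.isInvertible_tensorPow hΩ n
  have hd := deg_tensorPow k hΩ n
  rw [h2, hgen] at hd
  obtain ⟨g', rfl⟩ := Nat.exists_eq_add_of_le hg
  obtain ⟨n', rfl⟩ := Nat.exists_eq_add_of_le hn
  have hs : Subsingleton (Coh.HH X (CohB1.tensorPow (Omega.sheaf (X ↘ Spec (CommRingCat.of k))) (2 + n')) 1) :=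
    subsingleton_H1_of_deg_gt k h0 hM (by rw [hd, hgen]; push_cast; nlinarith)
  refine ⟨hs, ?_⟩
  haveI := (Euler.isCoh_of_isInvertible hM).1
  have h3 := Euler.euler_eq_sub (X := X) k hdim.le
    (CohB1.tensorPow (Omega.sheaf (X ↘ Spec (CommRingCat.of k))) (2 + n'))
  have h4 := Euler.euler_structure (X := X) k hdim.le
  simp only [Curv2.deg, Nat.cast_one, one_mul] at hd
  rw [Module.finrank_zero_of_subsingleton (R := k)
    (M := Coh.HH X (CohB1.tensorPow (Omega.sheaf (X ↘ Spec (CommRingCat.of k))) (2 + n')) 1)] at h3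
  rw [h0, hgen] at h4
  rw [show 2 * (2 + n') - 1 = 2 * n' + 3 by omega, show 2 + g' - 1 = g' + 1 by omega]
  push_cast at hd h3 h4
  rw [h3, h4] at hd
  have h5 : (Module.finrank k (Coh.HH X (CohB1.tensorPow (Omega.sheaf (X ↘ Spec (CommRingCat.of k))) (2 + n')) 0) : ℤ)
      = (2 * n' + 3) * (g' + 1) := by linear_combination hd
  exact_mod_cast h5

end GrothLib.SmCurveFam
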