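import Groth.Agent.Lib.SmCurveFam.DegreeOnePush

/-!
# The canonical section generates the direct image
-/

set_option autoImplicit false
set_option linter.style.haveILetI false
set_option backward.isDefEq.respectTransparency false
set_option maxHeartbeats 1000000

universe u

open CategoryTheory CategoryTheory.Limits AlgebraicGeometry TopologicalSpace Opposite
open GrothLib.InvExt (mres fres IsGen)

noncomputable section

namespace GrothLib.SmCurveFam

variable {C S : Scheme.{u}} (f : C ⟶ S) [IsProper f] [Smooth f] [GeometricallyConnected f]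
  (hdim : ∀ s : S, topologicalKrullDim ↥(f.fiber s) = 1)
  (hg : ∀ s : S, 1 ≤ CohIII.fiberRank f (Coh.structureModule C) 1 s)
  (x : S ⟶ C) (hx : x ≫ f = 𝟙 S) {L : C.Modules} (hL : PicF.IsInvertible L)
  (hLx : ClSub.IsInverseOf L (ClSub.idealMod x.ker)) {s : Γ(L, ⊤)} (hs : IsCanSec x.ker L s)

include hdim hg hx hL hLx hs in
/-- The direct image of the bundle of a section is invertible. -/
theorem isInvertible_push : PicF.IsInvertible ((Scheme.Modules.pushforward f).obj L) := fun y => by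
  haveI := InvExt.isQuasicoherent_of_isInvertible hL
  haveI : Coh.IsQCoh L := InvExt.isQuasicoherent_of_isInvertible hL
  have hFP : CohB1.IsFP L := LocFree8.isFP_of_isFinLocFree L (Euler.isFinLocFree_of_isInvertible hL)
  have hfl : FlatMod.IsFlatOver f L := Seesaw26.isFlatOver_of_isInvertible f hL
  obtain ⟨U, n, hy, ⟨φ⟩, hn⟩ := BCCrit.exists_free_near0 hFP hfl y
    ((BCCrit.goodAll_iff_epi0 hFP hfl y).2 (epi_bc0 f hdim hg x hx hL hLx hs y))
  have hr : CohIII.fiberRank f L 0 y = 1 := by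
    refine le_antisymm (fiberRank_le_one f hdim hg x hx hL hLx y) (Nat.one_le_iff_ne_zero.2 fun h0 => ?_)
    haveI := (BCCrit.subsingleton_fiberH_iff hFP hfl 0 y).2 h0
    let Z := f.fiber y
    let N := CohIII.fiberMod f L y
    let e : Coh.HH Z N 0 ≃+ Γ(N, (⊤ : Z.Opens)) :=
      Sheaf.H.equiv₀ (Coh.toAb N) (T := (⊤ : Z.Opens)) isTerminalTop
    haveI : Subsingleton Γ(N, (⊤ : Z.Opens)) := e.symm.toEquiv.subsingleton
    exact pullRes_ne_zero f hdim x hx hL hs y ⊤ le_top (Subsingleton.elim (α := Γ(N, (⊤ : Z.Opens))) _ 0)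
  obtain rfl : n = 1 := (hn y hy).symm.trans hr
  exact ⟨U, hy, ⟨φ ≪≫ coproductUniqueIso fun _ : Fin 1 => Coh.structureModule (↑U)⟩⟩

include hdim hg hx hL hLx hs in
/-- The canonical section is a basis of the direct image. -/
theorem isGen_push :
    IsGen ((Scheme.Modules.pushforward f).obj L) ⊤ (mres L (le_top : f ⁻¹ᵁ (⊤ : S.Opens) ≤ ⊤) s) := by
  let N := (Scheme.Modules.pushforward f).obj L
  let σ : Γ(N, ⊤) := mres L (le_top : f ⁻¹ᵁ (⊤ : S.Opens) ≤ ⊤) s
  have hloc : ∀ y : S, ∃ W : S.Opens, y ∈ W ∧ IsGen N W (mres N (le_top : W ≤ ⊤) σ) := by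
    intro y
    obtain ⟨V, e₀, hyV, he₀⟩ := InvExt.exists_gen_nhd (isInvertible_push f hdim hg x hx hL hLx hs) y
    obtain ⟨a, ha⟩ := he₀.exists_smul_eq le_rfl (mres N (le_top : V ≤ ⊤) σ)
    rw [InvExt.mres_self] at ha
    have hya : y ∈ S.basicOpen a := by
      obtain ⟨z, hz⟩ := exists_fibre_notMem f hdim x hx y
      let p := f.fiberι y z
      have hp : f p = y := (f.range_fiberι y).le ⟨z, rfl⟩
      obtain ⟨W, hW, hpW, hgen⟩ := (VA.genAt_mres (h := (le_top : f ⁻¹ᵁ V ≤ ⊤)) s).2
        ⟨show f p ∈ V by rw [hp]; exact hyV, hs.genAt hz⟩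
      have ha' : mres L (le_top : f ⁻¹ᵁ V ≤ ⊤) s = f.app V a • (show Γ(L, f ⁻¹ᵁ V) from e₀) := by
        refine Eq.trans ?_ ha
        exact (InvExt.mres_mres L _ _ s).symm
      obtain ⟨d, hd⟩ := hgen.exists_smul_eq le_rfl (mres L hW (show Γ(L, f ⁻¹ᵁ V) from e₀))
      rw [InvExt.mres_self] at hd
      have h1 : IsUnit (fres C hW (f.app V a)) := by
        refine IsUnit.of_mul_eq_one d (hgen.smul_left_injective le_rfl ?_)
        rw [InvExt.mres_self, mul_smul, ← hd, ← InvExt.mres_smul, ← ha', one_smul]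
      have h2 : p ∈ C.basicOpen (fres C hW (f.app V a)) := by
        rw [C.basicOpen_of_isUnit h1]; exact hpW
      rw [Scheme.basicOpen_res] at h2
      have h3 : p ∈ f ⁻¹ᵁ S.basicOpen a := by
        rw [Scheme.preimage_basicOpen]; exact h2.2
      show y ∈ S.basicOpen a
      rw [← hp]; exact h3
    refine ⟨S.basicOpen a, hya, ?_⟩
    have h4 := (he₀.restrict (S.basicOpen_le a)).smul_unit
      (u := fres S (S.basicOpen_le a) a) (RingedSpace.isUnit_res_basicOpen _ a)
    rw [← InvExt.mres_smul, ← ha, InvExt.mres_mres] at h4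
    exact h4
  choose W hyW hgenW using hloc
  exact InvExt.isGen_of_cover W (fun y => le_top) (fun y _ => Opens.mem_iSup.2 ⟨y, hyW y⟩) hgenW

include hdim hg hx hL hLx in
/-- The section is determined by its bundle. -/
theorem section_unique (x' : S ⟶ C) (hx' : x' ≫ f = 𝟙 S) (hLx' : ClSub.IsInverseOf L (ClSub.idealMod x'.ker)) :
    x' = x := by
  obtain ⟨t, ht⟩ := exists_isCanSec (isEffCartier_section f hdim x hx) hL hLx
  obtain ⟨t', ht'⟩ := exists_isCanSec (isEffCartier_section f hdim x' hx') hL hLx'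
  have g := isGen_push f hdim hg x hx hL hLx ht
  have g' := isGen_push f hdim hg x' hx' hL hLx' ht'
  let N := (Scheme.Modules.pushforward f).obj L
  let σ : Γ(N, ⊤) := mres L (le_top : f ⁻¹ᵁ (⊤ : S.Opens) ≤ ⊤) t
  let σ' : Γ(N, ⊤) := mres L (le_top : f ⁻¹ᵁ (⊤ : S.Opens) ≤ ⊤) t'
  obtain ⟨c, hc⟩ := g.exists_smul_eq le_rfl σ'
  obtain ⟨d, hd⟩ := g'.exists_smul_eq le_rfl σ
  rw [InvExt.mres_self] at hc hd
  have hcu : IsUnit c := by
    refine IsUnit.of_mul_eq_one_right d (g.smul_left_injective le_rfl ?_)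
    rw [InvExt.mres_self, mul_smul, one_smul]
    exact (congrArg (fun m => d • m) hc.symm).trans hd.symm
  have h : t' = (show Γ(C, ⊤) from f.app ⊤ c) • t := by
    have h0 : σ' = c • σ := hc
    change mres L (le_refl _) t' = (show Γ(C, ⊤) from f.app ⊤ c) • mres L (le_refl _) t at h0
    rwa [InvExt.mres_self, InvExt.mres_self] at h0
  have hker := ht.eq_of_smul ht' (hcu.map (f.app ⊤).hom) h
  haveI : IsClosedImmersion x := by
    haveI : IsClosedImmersion (x ≫ f) := by rw [hx]; infer_instance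
    exact IsClosedImmersion.of_comp x f
  have h5 : IsClosedImmersion.lift x x' hker.le = 𝟙 S := by
    calc IsClosedImmersion.lift x x' hker.le = (IsClosedImmersion.lift x x' hker.le ≫ x) ≫ f := by
          rw [Category.assoc, hx, Category.comp_id]
      _ = 𝟙 S := by rw [IsClosedImmersion.lift_fac, hx']
  rw [← IsClosedImmersion.lift_fac x x' hker.le, h5, Category.id_comp]

end GrothLib.SmCurveFam
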