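import Groth.Agent.Lib.SmCurveFam.Family
import Groth.Agent.Lib.Seesaw26.Universal
import Groth.Agent.Lib.Seesaw26.FieldFunctions
import Groth.Agent.Lib.SecComp6.Smooth

/-!
# Direct images in families of smooth curves
-/

set_option autoImplicit false
set_option linter.style.haveILetI false
set_option backward.isDefEq.respectTransparency false

universe u

open CategoryTheory CategoryTheory.Limits AlgebraicGeometry TopologicalSpace Opposite

noncomputable section

namespace GrothLib.SmCurveFam

variable {C S : Scheme.{u}} (f : C ⟶ S) [IsProper f] [Smooth f] [GeometricallyConnected f]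

/-- The fibres of a family of curves have only constant functions. -/
theorem finrank_functions (s : S) : Module.finrank (S.residueField s) Γ(f.fiber s, ⊤) = 1 := by
  haveI := GrothLib.SecComp6.geometricallyReduced_of_smooth f
  exact Seesaw26.finrank_fiber_functions_eq_one f s

/-- Goodness in degree zero for the structure module. -/
theorem goodAll0_structure (s : S) : BCCrit.GoodAll f (Coh.structureModule C) ((0 : ℕ) : ℤ) s :=
  haveI : (Coh.structureModule C).IsQuasicoherent :=
    InvExt.isQuasicoherent_of_isInvertible Euler.isInvertible_structure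
  haveI : Coh.IsQCoh (Coh.structureModule C) := InvExt.isQuasicoherent_of_isInvertible Euler.isInvertible_structure
  (BCCrit.goodAll_iff_epi0 (LocFree8.isFP_of_isFinLocFree _ (Euler.isFinLocFree_of_isInvertible Euler.isInvertible_structure))
    (Seesaw26.isFlatOver_structure f) s).2 (Seesaw26.epi_bc0_structure f s (finrank_functions f s))

/-- `O_S = f_* O_C`. -/
theorem isIso_unitToPush : IsIso (ClSub.unitToPush f) := by
  haveI : (Coh.structureModule C).IsQuasicoherent :=
    InvExt.isQuasicoherent_of_isInvertible Euler.isInvertible_structure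
  haveI : Coh.IsQCoh (Coh.structureModule C) := InvExt.isQuasicoherent_of_isInvertible Euler.isInvertible_structure
  have hinv : PicF.IsInvertible ((Scheme.Modules.pushforward f).obj (Coh.structureModule C)) := fun s => by
    obtain ⟨V, n, hs, ⟨φ⟩, hn⟩ := BCCrit.exists_free_near0
      (LocFree8.isFP_of_isFinLocFree _ (Euler.isFinLocFree_of_isInvertible Euler.isInvertible_structure))
      (Seesaw26.isFlatOver_structure f) s (goodAll0_structure f s)
    obtain rfl : n = 1 := (hn s hs).symm.trans
      (Seesaw26.fiberRank_eq_one f _ s (finrank_functions f s) ⟨PicLoc.pullbackStructureIso _⟩)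
    exact ⟨V, hs, ⟨φ ≪≫ coproductUniqueIso fun _ : Fin 1 => Coh.structureModule (↑V)⟩⟩
  refine Scheme.Modules.Hom.isIso_iff_isIso_app.2 fun U => ?_
  exact (ConcreteCategory.isIso_iff_bijective _).2 (Seesaw26.bijective_app_of_invertible f hinv U)

variable (hdim : ∀ s : S, topologicalKrullDim ↥(f.fiber s) = 1)

include hdim in
/-- Higher direct images vanish above degree one. -/
theorem isZero_Rpush_two [HasInjectiveResolutions C.Modules] {F : C.Modules} [Coh.IsQCoh F] (hF : CohB1.IsFP F)
    (hfl : FlatMod.IsFlatOver f F) (i : ℕ) (hi : 2 ≤ i) : IsZero ((Coh.Rpush f i).obj F) := by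
  haveI : F.IsQuasicoherent := ‹Coh.IsQCoh F›
  refine BCCrit.isZero_of_free_zero _ fun y => ?_
  obtain ⟨U, hy, hφ, -⟩ := BCCrit.exists_zero_near hF hfl i y
    (BCCrit.fiberRank_eq_zero_of_dim_lt y 1 i (hdim y).le (by omega))
  exact ⟨U, hy, hφ⟩

variable (g : ℕ) (hg : 2 ≤ g)
  (hgen : ∀ s : S, letI : (f.fiber s).Over (Spec (S.residueField s)) := ⟨f.fiberToSpecResidueField s⟩
    Curv2.genus (S.residueField s) (f.fiber s) = g)

include hdim hg hgen in
/-- The fibre ranks of the powers of the relative differentials. -/
theorem omegaPow_fiberRank (n : ℕ) (hn : 2 ≤ n) (s : S) :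
    CohIII.fiberRank f (CohB1.tensorPow (Omega.sheaf f) n) 1 s = 0 ∧
      CohIII.fiberRank f (CohB1.tensorPow (Omega.sheaf f) n) 0 s = (2 * n - 1) * (g - 1) := by
  obtain ⟨h1, h2, h3, -⟩ := fiber_props f s
  haveI := smoothOfRelativeDimension_one f hdim
  obtain ⟨e⟩ := nonempty_fiberMod_omegaPow f n s
  letI : (f.fiber s).Over (Spec (CommRingCat.of (S.residueField s))) := ⟨f.fiberToSpecResidueField s⟩
  haveI : IsProper (f.fiber s ↘ Spec (CommRingCat.of (S.residueField s))) := h1
  haveI : Smooth (f.fiber s ↘ Spec (CommRingCat.of (S.residueField s))) := h2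
  haveI : GeometricallyConnected (f.fiber s ↘ Spec (CommRingCat.of (S.residueField s))) := h3
  obtain ⟨k1, k0⟩ := omegaPow_cohom (S.residueField s) (X := f.fiber s) (hdim s) g hg (hgen s) n hn
  haveI : (CohB1.tensorPow (Omega.sheaf f) n).IsQuasicoherent :=
    InvExt.isQuasicoherent_of_isInvertible (omegaPow_props f n).1
  refine ⟨?_, (fiberRank_congr f _ 0 s e).1.trans k0⟩
  exact BCCoh.fiberRank_eq_zero_of_subsingleton f _ 1 s ((fiberRank_congr f _ 1 s e).2.2 k1)

end GrothLib.SmCurveFam
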