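import Groth.Agent.Lib.SmCurveFam.Push
import Groth.Agent.Lib.FibVA11.Main
import Groth.Agent.Lib.VA.ProjSpace
import Groth.Agent.Lib.VA.ToPn
import Groth.Agent.S1611
import Groth.Agent.S5728

/-!
# Pluricanonical very ampleness in families of smooth curves
-/

set_option autoImplicit false
set_option linter.style.haveILetI false
set_option backward.isDefEq.respectTransparency false

universe u

open CategoryTheory CategoryTheory.Limits AlgebraicGeometry TopologicalSpace Opposite
open GrothLib.CurveRR

noncomputable section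

namespace GrothLib.SmCurveFam

section Field

variable (k : Type u) [Field k] {X : Scheme.{u}} [X.Over (Spec (CommRingCat.of k))]
  [IsProper (X ↘ Spec (CommRingCat.of k))] [Smooth (X ↘ Spec (CommRingCat.of k))]
  [GeometricallyConnected (X ↘ Spec (CommRingCat.of k))]

theorem geometricallyIntegral : GeometricallyIntegral (X ↘ Spec (CommRingCat.of k)) := by
  refine ⟨fun L _ y Z fst snd h => ?_⟩
  haveI : Smooth snd := MorphismProperty.of_isPullback (P := @Smooth) h inferInstance
  haveI : IsProper snd := MorphismProperty.of_isPullback (P := @IsProper) h inferInstance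
  haveI : ConnectedSpace Z :=
    ‹GeometricallyConnected (X ↘ Spec (CommRingCat.of k))›.geometrically_connectedSpace _ _ _ h
  exact Euler.isIntegral_of_smooth_connected L snd

/-- The powers of the differentials from the third on embed a curve of genus at least two. -/
theorem isRelVeryAmplePn_omegaPow (hdim : topologicalKrullDim X = 1) (g : ℕ) (hg : 2 ≤ g)
    (hgen : Curv2.genus k X = g) (n : ℕ) (hn : 3 ≤ n) :
    RelAmple.IsRelVeryAmplePn (X ↘ Spec (CommRingCat.of k))
      (CohB1.tensorPow (Omega.sheaf (X ↘ Spec (CommRingCat.of k))) n) := by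
  obtain ⟨hint, h0⟩ := CurveMult.OmegaField.integral_and_h0 k X
  haveI := regCurve_of_smooth (X ↘ Spec (CommRingCat.of k)) hdim
  haveI := geometricallyIntegral k (X := X)
  obtain ⟨-, h2⟩ := CurveMult.OmegaField.finrank_deg_omega k hdim h0
  have hΩ := CurveMult.OmegaField.isInvertible k (X := X)
  have hM := Ample.isInvertible_tensorPow hΩ n
  have hd := deg_tensorPow k hΩ n
  rw [h2, hgen] at hd
  have hg' : (2 : ℤ) ≤ g := by exact_mod_cast hg
  have hn' : (3 : ℤ) ≤ n := by exact_mod_cast hn
  obtain ⟨N, i, hi, hif, ⟨e⟩⟩ := Groth.Agent.S1611.result k X hdim h0 _ hM (by rw [hd, hgen]; nlinarith)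
  haveI := hi
  refine VA.isRelVeryAmplePn_of_isRelVeryAmple _ hM (VA.isRelVeryAmple_of_iso e ?_)
  exact hif ▸ VA.isRelVeryAmple_precomp i (VA.isRelVeryAmple_projSpace N k)

end Field

variable {C S : Scheme.{u}} (f : C ⟶ S) [IsProper f] [Smooth f] [GeometricallyConnected f]
  (hdim : ∀ s : S, topologicalKrullDim ↥(f.fiber s) = 1) (g : ℕ) (hg : 2 ≤ g)
  (hgen : ∀ s : S, letI : (f.fiber s).Over (Spec (S.residueField s)) := ⟨f.fiberToSpecResidueField s⟩
    Curv2.genus (S.residueField s) (f.fiber s) = g)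

include hdim hg hgen in
theorem isRelVeryAmple_omegaPow (n : ℕ) (hn : 3 ≤ n) :
    RelProj.IsRelVeryAmple f (CohB1.tensorPow (Omega.sheaf f) n) := by
  haveI := smoothOfRelativeDimension_one f hdim
  obtain ⟨hinv, hfp, hqc, hfl⟩ := omegaPow_props f n
  haveI := hqc
  haveI : (CohB1.tensorPow (Omega.sheaf f) n).IsQuasicoherent := hqc
  refine FibVA11.isRelVeryAmple_of_fibrewise f hinv (fun y => ?_) fun y => ?_
  · obtain ⟨h1, h2, h3, -⟩ := fiber_props f y
    obtain ⟨e⟩ := nonempty_fiberMod_omegaPow f n y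
    letI : (f.fiber y).Over (Spec (CommRingCat.of (S.residueField y))) := ⟨f.fiberToSpecResidueField y⟩
    haveI : IsProper (f.fiber y ↘ Spec (CommRingCat.of (S.residueField y))) := h1
    haveI : Smooth (f.fiber y ↘ Spec (CommRingCat.of (S.residueField y))) := h2
    haveI : GeometricallyConnected (f.fiber y ↘ Spec (CommRingCat.of (S.residueField y))) := h3
    obtain ⟨m, i, hi, hif, ⟨e'⟩⟩ := isRelVeryAmplePn_omegaPow (S.residueField y) (X := f.fiber y) (hdim y) g hg
      (hgen y) n hn
    exact ⟨m, i, hi, hif, ⟨e ≪≫ e'⟩⟩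
  · exact (BCCrit.subsingleton_fiberH_iff hfp hfl 1 y).2 (omegaPow_fiberRank f hdim g hg hgen n (by omega) y).1

include hdim hg hgen in
theorem isProjective : RelProj.IsProjective f := by
  haveI := smoothOfRelativeDimension_one f hdim
  obtain ⟨hinv, hfp, hqc, hfl⟩ := omegaPow_props f 3
  haveI := hqc
  haveI : (CohB1.tensorPow (Omega.sheaf f) 3).IsQuasicoherent := hqc
  refine Groth.Agent.S5728.result f _ hinv (isRelVeryAmple_omegaPow f hdim g hg hgen 3 le_rfl)
    (Euler.isCoh_of_isFinLocFree fun s => ?_).2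
  obtain ⟨U, r, hs, hφ, -⟩ := BCCrit.exists_free_near0 hfp hfl s (by
    simpa using (BCCrit.goodAll_of_fiberRank_eq_zero 1 s
      (omegaPow_fiberRank f hdim g hg hgen 3 (by omega) s).1).2)
  exact ⟨U, r, hs, hφ⟩

end GrothLib.SmCurveFam
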