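import Groth.Agent.Lib.SmCurveFam.Family
import Groth.Agent.Lib.FunFld.CanonicalOrders
import Groth.Agent.Lib.FunFld.LinSeries
import Groth.Agent.Lib.CurveProd28.Basic
import Groth.Agent.Lib.Cube.DivisorSection
import Groth.Agent.Lib.CurveMult.DegHom

/-!
# Bundles of degree one in families of curves of positive genus
-/

set_option autoImplicit false
set_option linter.style.haveILetI false
set_option backward.isDefEq.respectTransparency false

universe u

open CategoryTheory CategoryTheory.Limits AlgebraicGeometry TopologicalSpace Opposite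
open _root_.FunFld (Divisor IsFunctionField ell L div)
open GrothLib.Cube (clsMod pull)

noncomputable section

namespace GrothLib.SmCurveFam

/-- In positive genus a divisor of degree one has at most one independent section. -/
theorem ell_le_one_of_deg_one {k K : Type*} [Field k] [Field K] [Algebra k K] (h : IsFunctionField k K)
    (hg : 1 ≤ _root_.FunFld.genus k K) (E : Divisor k K) (hE : E.deg = 1) : ell E ≤ 1 := by
  classical
  have hfg := h.1
  by_contra hc
  obtain ⟨z, hz0, -, hz⟩ := FunFld.IsFG.exists_of_ell_pos hfg (show 0 < ell E by omega)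
  have hd : (E + div k z).deg = 1 := by rw [FunFld.deg_add, FunFld.IsFG.deg_div hfg, hE, add_zero]
  have hne : E + div k z ≠ 0 := fun h0 => by
    rw [h0, FunFld.deg_zero] at hd; omega
  obtain ⟨P, hP⟩ := Finsupp.ne_iff.1 hne
  have hle : Finsupp.single P 1 ≤ E + div k z := fun Q => by
    have := hz Q
    by_cases hQ : P = Q
    · subst hQ; simp at this hP ⊢; omega
    · simp [hQ] at this ⊢; omega
  have hPd := FunFld.IsFG.deg_pos hfg P
  have hm := FunFld.deg_mono hle
  rw [FunFld.deg_single, one_mul, hd] at hm
  have hP1 : P.deg = 1 := by omega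
  have h1 := FunFld.ell_single_one h hg hP1
  have h2 := FunFld.IsFG.ell_sub_ell_le hfg hle
  rw [FunFld.deg_single, hP1, hd, FunFld.IsFG.ell_add_div hfg E hz0] at h2
  omega

section Field

variable (k : Type u) [Field k] {X : Scheme.{u}} [X.Over (Spec (CommRingCat.of k))]
  [IsProper (X ↘ Spec (CommRingCat.of k))] [Smooth (X ↘ Spec (CommRingCat.of k))]
  [GeometricallyConnected (X ↘ Spec (CommRingCat.of k))]

/-- In positive genus an invertible module of degree one has at most one independent section. -/
theorem finrank_H0_le_one (hdim : topologicalKrullDim X = 1) (hg : 1 ≤ Curv2.genus k X) {M : X.Modules}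
    (hM : PicF.IsInvertible M) (hd : Curv2.deg k X M 1 = 1) : Module.finrank k (Coh.HH X M 0) ≤ 1 := by
  obtain ⟨hint, h0⟩ := CurveMult.OmegaField.integral_and_h0 k X
  haveI := CurveRR.regCurve_of_smooth (X ↘ Spec (CommRingCat.of k)) hdim
  have hK := CurveRR.isFunctionField k h0
  obtain ⟨C, hC⟩ := FunFld.exists_isCanonical hK
  obtain ⟨D, -, hD, hh, -⟩ := CurveRR.exists_divisor k h0 hC hM
  rw [hh]
  exact ell_le_one_of_deg_one hK (by rw [← CurveRR.genus_eq k h0]; exact hg) D (by omega)

end Field

variable {C S : Scheme.{u}} (f : C ⟶ S) [IsProper f] [Smooth f] [GeometricallyConnected f]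

/-- A bundle inverse to the ideal of a section has degree one on the fibres. -/
theorem deg_fibre_eq_one (hdim : ∀ s : S, topologicalKrullDim ↥(f.fiber s) = 1) (x : S ⟶ C) (hx : x ≫ f = 𝟙 S)
    (hI : PicF.IsInvertible (ClSub.idealMod x.ker)) {M : C.Modules} (hM : PicF.IsInvertible M)
    (h : ClSub.IsInverseOf M (ClSub.idealMod x.ker)) (y : S) :
    letI : (f.fiber y).Over (Spec (S.residueField y)) := ⟨f.fiberToSpecResidueField y⟩
    Curv2.deg (S.residueField y) (f.fiber y) (CohIII.fiberMod f M y) 1 = 1 := by
  letI : (f.fiber y).Over (Spec (CommRingCat.of (S.residueField y))) := ⟨f.fiberToSpecResidueField y⟩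
  obtain ⟨h1, h2, h3, h4⟩ := fiber_props f y
  haveI : IsProper (f.fiber y ↘ Spec (CommRingCat.of (S.residueField y))) := h1
  haveI : Smooth (f.fiber y ↘ Spec (CommRingCat.of (S.residueField y))) := h2
  haveI : IsClosedImmersion x := by
    haveI : IsClosedImmersion (x ≫ f) := by rw [hx]; infer_instance
    exact IsClosedImmersion.of_comp x f
  let q := S.fromSpecResidueField y
  let xy : Spec (S.residueField y) ⟶ f.fiber y :=
    pullback.lift (q ≫ x) (𝟙 _) (by simp only [Category.assoc, hx, Category.comp_id, Category.id_comp]; rfl)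
  have hxy1 : xy ≫ f.fiberι y = q ≫ x := pullback.lift_fst _ _ _
  have hxy2 : xy ≫ f.fiberToSpecResidueField y = 𝟙 _ := pullback.lift_snd _ _ _
  have hQ : IsPullback q xy x (f.fiberι y) := by
    refine IsPullback.of_bot ?_ hxy1.symm (IsPullback.of_hasPullback f (S.fromSpecResidueField y))
    show IsPullback q (xy ≫ f.fiberToSpecResidueField y) (x ≫ f) q
    rw [hxy2, hx]
    exact IsPullback.of_vert_isIso ⟨by simp⟩
  have hker : xy.ker = x.ker.comap (f.fiberι y) := by
    rw [← hQ.flip.isoPullback_hom_fst, Scheme.Hom.ker_comp_of_isIso,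
      Scheme.IdealSheafData.ker_fst_of_isClosedImmersion]
  haveI : IsClosedImmersion xy := CurveProd28.isClosedImmersion_pt (S.residueField y) xy hxy2
  have hJ := CurveProd28.isInvertible_pt (S.residueField y) (hdim y) xy hxy2
  obtain ⟨e⟩ := HodgeIndex.nonempty_pullback_idealMod x xy q (f.fiberι y) hxy1 hker hI hJ
  have hI' := Ample.isInvertible_pullback (f.fiberι y) hI
  have hM' : PicF.IsInvertible (CohIII.fiberMod f M y) := Ample.isInvertible_pullback (f.fiberι y) hM
  have hcls : clsMod hM' * clsMod hJ = 1 := by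
    rw [← (Cube.clsMod_eq_iff hI' hJ).2 ⟨e⟩, Cube.clsMod_pullback _ hI,
      show clsMod hM' = pull (f.fiberι y) (clsMod hM) from Cube.clsMod_pullback _ hM, ← map_mul,
      Cube.clsMod_eq_inv_of_isInverseOf hM hI h, inv_mul_cancel, map_one]
  obtain ⟨e2⟩ := (Cube.clsMod_eq_one_iff (Ample.isInvertible_tensorMod hM' hJ)).1
    ((Cube.clsMod_tensorMod hM' hJ).trans hcls)
  have hd := CurveMult.deg_tensorMod (S.residueField y) (hdim y).le hM' hJ
  rw [Euler.deg_of_iso (S.residueField y) e2, CurveProd28.deg_idealMod_pt (S.residueField y) (hdim y) xy hxy2,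
    Curv2.deg] at hd
  simp only [Nat.cast_one, one_mul, sub_self] at hd
  omega

end GrothLib.SmCurveFam
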