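import Groth.Agent.Lib.SmCurveFam.VeryAmple

/-!
# Relative very ampleness of bundles of large fibre degree
-/

set_option autoImplicit false
set_option linter.style.haveILetI false
set_option backward.isDefEq.respectTransparency false

universe u

open CategoryTheory CategoryTheory.Limits AlgebraicGeometry TopologicalSpace Opposite
open GrothLib.CurveRR

noncomputable section

namespace GrothLib.SmCurveFam

variable {C S : Scheme.{u}} (f : C ⟶ S) [IsProper f] [Smooth f] [GeometricallyConnected f]

/-- Invertible modules of fibre degree at least `2g + 1` are relatively very ample. -/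
theorem isRelVeryAmple_of_deg_ge (hdim : ∀ s : S, topologicalKrullDim ↥(f.fiber s) = 1) (L : C.Modules)
    (hL : PicF.IsInvertible L)
    (hdeg : ∀ s : S, letI : (f.fiber s).Over (Spec (S.residueField s)) := ⟨f.fiberToSpecResidueField s⟩
      2 * (Curv2.genus (S.residueField s) (f.fiber s) : ℤ) + 1 ≤
        Curv2.deg (S.residueField s) (f.fiber s) (CohIII.fiberMod f L s) 1) :
    RelProj.IsRelVeryAmple f L := by
  haveI : L.IsQuasicoherent := InvExt.isQuasicoherent_of_isInvertible hL
  refine FibVA11.isRelVeryAmple_of_fibrewise f hL (fun y => ?_) fun y => ?_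
  all_goals
    obtain ⟨h1, h2, h3, -⟩ := fiber_props f y
    letI : (f.fiber y).Over (Spec (CommRingCat.of (S.residueField y))) := ⟨f.fiberToSpecResidueField y⟩
    haveI : IsProper (f.fiber y ↘ Spec (CommRingCat.of (S.residueField y))) := h1
    haveI : Smooth (f.fiber y ↘ Spec (CommRingCat.of (S.residueField y))) := h2
    haveI : GeometricallyConnected (f.fiber y ↘ Spec (CommRingCat.of (S.residueField y))) := h3
    obtain ⟨hint, h0⟩ := CurveMult.OmegaField.integral_and_h0 (S.residueField y) (f.fiber y)
    haveI := regCurve_of_smooth (f.fiber y ↘ Spec (CommRingCat.of (S.residueField y))) (hdim y)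
    haveI := geometricallyIntegral (S.residueField y) (X := f.fiber y)
    have hM : PicF.IsInvertible (CohIII.fiberMod f L y) := Ample.isInvertible_pullback _ hL
  · obtain ⟨N, i, hi, hif, ⟨e⟩⟩ := Groth.Agent.S1611.result (S.residueField y) (f.fiber y) (hdim y) h0 _ hM (hdeg y)
    haveI := hi
    refine VA.isRelVeryAmplePn_of_isRelVeryAmple _ hM (VA.isRelVeryAmple_of_iso e ?_)
    have h := VA.isRelVeryAmple_precomp i (VA.isRelVeryAmple_projSpace N (S.residueField y))
    rw [hif] at h
    exact h
  · exact subsingleton_H1_of_deg_gt (S.residueField y) h0 hM (by linarith [hdeg y])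

end GrothLib.SmCurveFam
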