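import Groth.Agent.Lib.Cube.DivisorSection
import Groth.Agent.Lib.VA.Gen

/-!
# The canonical section of the inverse of an effective Cartier divisor
-/

set_option autoImplicit false
set_option backward.isDefEq.respectTransparency false

universe u

open CategoryTheory CategoryTheory.Limits Opposite TopologicalSpace AlgebraicGeometry
open GrothLib.Ample GrothLib.Cube
open GrothLib.InvExt (mres fres IsGen)
open GrothLib.IdealModSec (val val_smul val_mres val_mem exists_val_eq)

noncomputable section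

namespace GrothLib.SmCurveFam

variable {X : Scheme.{u}}

/-- `s` is the canonical section of `O(D)`, `D` the closed subscheme of `I`. -/
def IsCanSec (I : X.IdealSheafData) (L : X.Modules) (s : Γ(L, ⊤)) : Prop :=
  ∀ p : X, ∃ (T : X.affineOpens) (e : Γ(L, T.1)) (r : Γ(X, T.1)),
    p ∈ T.1 ∧ IsGen L T.1 e ∧ mres L (le_top : T.1 ≤ ⊤) s = r • e ∧ I.ideal T = Ideal.span {r}

/-- The inverse of an invertible ideal has a canonical section. -/
theorem exists_isCanSec {I : X.IdealSheafData} (hI : _root_.BlowUp.IsEffCartierIdeal I) {L : X.Modules}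
    (hL : PicF.IsInvertible L) (h : ClSub.IsInverseOf L (ClSub.idealMod I)) : ∃ s, IsCanSec I L s := by
  have hM := IdealModSec.isInvertible_of_isEffCartier hI
  obtain ⟨c, ⟨e⟩⟩ := exists_cocycle hM
  let m : ∀ i, Γ(ClSub.idealMod I, c.D i) := fun i => e.inv.app (c.D i) (c.base 1 i le_rfl)
  let f : ∀ i, Γ(X, c.D i) := fun i => val I (c.D i) (m i)
  have hm : ∀ i, IsGen (ClSub.idealMod I) (c.D i) (m i) := fun i =>
    InvExt.IsGen.map e.inv (c.isGen_base 1 i le_rfl) fun W _ =>
      ConcreteCategory.bijective_of_isIso ((Scheme.Modules.toPresheaf _).map e.inv |>.app (op W))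
  have hf : ∀ i k (W : X.Opens) (hi : W ≤ c.D i) (hk : W ≤ c.D k),
      res hk (f k) = c.G i k hi hk * res hi (f i) := by
    intro i k W hi hk
    have e0 : ∀ j (hj : W ≤ c.D j), res hj (f j) = val I W (e.inv.app W (c.base 1 j hj)) := fun j hj => by
      refine (val_mres I hj (m j)).symm.trans ?_
      rw [← app_mres, ← c.sectRes_base 1 j le_rfl hj]
      rfl
    rw [e0 i hi, e0 k hk, c.base_eq_smul_base 1 i k hi hk, pow_one, app_smul, val_smul]
  let d := Cube.inv c
  let a : d.sect 1 ⊤ := ⟨fun i => res inf_le_right (f i), fun i k W hi hk => by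
    rw [pow_one, inv_G, res_res, res_res]
    exact hf k i W _ _⟩
  obtain ⟨θ⟩ := (clsMod_eq_iff hL (d.isInvertible_twist 1)).1 (by
    rw [clsMod_eq_inv_of_isInverseOf hL hM h, clsMod_eq hM e, clsMod_eq (d.isInvertible_twist 1) (Iso.refl _)]
    rfl)
  refine ⟨θ.inv.app ⊤ a, fun p => ?_⟩
  obtain ⟨i, hi⟩ := c.exists_mem p
  obtain ⟨T, hpT, hT⟩ := GrothLib.BlowUp.exists_affine_mem_le hi
  have hT' : T.1 ≤ d.D i := hT
  refine ⟨T, θ.inv.app T.1 (d.base 1 i hT'), res hT (f i), hpT, InvExt.IsGen.map θ.inv (d.isGen_base 1 i hT')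
    fun W _ => ConcreteCategory.bijective_of_isIso ((Scheme.Modules.toPresheaf _).map θ.inv |>.app (op W)), ?_, ?_⟩
  · rw [← app_mres, ← app_smul]
    refine congrArg (θ.inv.app T.1) ?_
    show d.sectRes (le_top : T.1 ≤ ⊤) a = _
    rw [d.eq_smul_base i hT' (d.sectRes (le_top : T.1 ≤ ⊤) a)]
    congr 1
    simp only [d.sectRes_apply, a, res_res]; rfl
  · refine le_antisymm (fun r hr => ?_) ?_
    · obtain ⟨k, rfl⟩ := exists_val_eq I T hr
      obtain ⟨t, ht⟩ := (hm i T.1 hT).2 k
      simp only at ht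
      rw [← ht, val_smul, val_mres]
      exact Ideal.mem_span_singleton'.2 ⟨t, rfl⟩
    · rw [Ideal.span_singleton_le_iff_mem]
      rw [show res hT (f i) = val I T.1 (mres _ hT (m i)) from (val_mres I hT (m i)).symm]
      exact val_mem I T _

variable {I : X.IdealSheafData} {L : X.Modules} {s : Γ(L, ⊤)}

/-- The canonical section generates off the divisor. -/
theorem IsCanSec.genAt (hs : IsCanSec I L s) {p : X} (hp : p ∉ (I.support : Set X)) : VA.GenAt L s p := by
  obtain ⟨T, e, r, hpT, he, hr, hI⟩ := hs p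
  refine (VA.genAt_iff_mem_basicOpen le_top he hr hpT).2 ?_
  by_contra h
  refine hp ?_
  have h1 : p ∈ X.zeroLocus (U := T.1) (I.ideal T) ∩ T.1 := by
    refine ⟨(Scheme.mem_zeroLocus_iff X _ p).2 fun q hq hqp => ?_, hpT⟩
    rw [hI, SetLike.mem_coe, Ideal.mem_span_singleton] at hq
    obtain ⟨t, rfl⟩ := hq
    rw [Scheme.basicOpen_mul] at hqp
    exact h hqp.1
  rw [← I.coe_support_inter] at h1
  exact h1.1

/-- Canonical sections differing by a unit define the same divisor. -/
theorem IsCanSec.eq_of_smul (hs : IsCanSec I L s) {J : X.IdealSheafData} {s' : Γ(L, ⊤)} (hs' : IsCanSec J L s')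
    {v : Γ(X, ⊤)} (hv : IsUnit v) (h : s' = v • s) : I = J := by
  have key : ∀ p : X, ∃ D : X.affineOpens, p ∈ D.1 ∧ I.ideal D = J.ideal D := by
    intro p
    obtain ⟨T, e, r, hpT, he, hr, hI⟩ := hs p
    obtain ⟨T', e', r', hpT', he', hr', hJ⟩ := hs' p
    obtain ⟨D, hD, hpD, hle⟩ := exists_isAffineOpen_mem_and_subset (show p ∈ T.1 ⊓ T'.1 from ⟨hpT, hpT'⟩)
    have h1 : D ≤ T.1 := fun z hz => (hle hz).1
    have h2 : D ≤ T'.1 := fun z hz => (hle hz).2
    let ε := mres L h1 e
    let ε' := mres L h2 e'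
    have hε : IsGen L D ε := he.restrict h1
    have hε' : IsGen L D ε' := he'.restrict h2
    obtain ⟨w, hw⟩ := hε.exists_smul_eq le_rfl ε'
    obtain ⟨w', hw'⟩ := hε'.exists_smul_eq le_rfl ε
    rw [InvExt.mres_self] at hw hw'
    have hww : IsUnit w := by
      refine IsUnit.of_mul_eq_one_right w' (hε.smul_left_injective le_rfl ?_)
      rw [InvExt.mres_self, mul_smul, ← hw, ← hw', one_smul]
    have hrD : mres L (le_top : D ≤ ⊤) s = fres X h1 r • ε := by
      rw [← InvExt.mres_mres L (le_top : T.1 ≤ ⊤) h1 s, hr, InvExt.mres_smul]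
    have hrD' : mres L (le_top : D ≤ ⊤) s' = fres X h2 r' • ε' := by
      rw [← InvExt.mres_mres L (le_top : T'.1 ≤ ⊤) h2 s', hr', InvExt.mres_smul]
    have heq : fres X h2 r' * w = fres X (le_top : D ≤ ⊤) v * fres X h1 r := hε.smul_left_injective le_rfl (by
      rw [InvExt.mres_self, mul_smul, ← hw, ← hrD', h, InvExt.mres_smul, hrD, mul_smul])
    refine ⟨⟨D, hD⟩, hpD, ?_⟩
    rw [← I.map_ideal (U := ⟨D, hD⟩) (V := T) h1, ← J.map_ideal (U := ⟨D, hD⟩) (V := T') h2, hI, hJ,
      Ideal.map_span, Ideal.map_span, Set.image_singleton, Set.image_singleton]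
    show Ideal.span {fres X h1 r} = Ideal.span {fres X h2 r'}
    rw [← Ideal.span_singleton_mul_left_unit (hv.map (X.presheaf.map (homOfLE (le_top : D ≤ ⊤)).op).hom) (fres X h1 r)]
    show Ideal.span {fres X (le_top : D ≤ ⊤) v * fres X h1 r} = _
    rw [← heq, Ideal.span_singleton_mul_right_unit hww]
  choose D hpD hD using key
  exact Scheme.IdealSheafData.ext_of_iSup_eq_top (fun p : X => D p)
    (top_le_iff.1 fun p _ => Opens.mem_iSup.2 ⟨p, hpD p⟩) hD

end GrothLib.SmCurveFam
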