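import Groth.Agent.Lib.SmCurveFam.DegreeOne
import Groth.Agent.Lib.SmCurveFam.CanonicalSection
import Groth.Agent.Lib.SmCurveFam.Push
import Groth.Agent.Lib.FibVA11.Mono
import Groth.Agent.Lib.CurveMult.IdealCrit
import Groth.Agent.S15990

/-!
# The direct image of the bundle of a section
-/

set_option autoImplicit false
set_option linter.style.haveILetI false
set_option backward.isDefEq.respectTransparency false
set_option maxHeartbeats 1000000

universe u

open CategoryTheory CategoryTheory.Limits AlgebraicGeometry TopologicalSpace Opposite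
open GrothLib.InvExt (mres fres IsGen)

noncomputable section

namespace GrothLib.SmCurveFam

variable {C S : Scheme.{u}} (f : C ⟶ S) [IsProper f] [Smooth f] [GeometricallyConnected f]

omit [Smooth f] [GeometricallyConnected f] in
/-- A nonzero section spans a one-dimensional space of sections on a fibre. -/
theorem exists_smul_eq_of_finrank_le_one (M : C.Modules) (hM : PicF.IsInvertible M) (y : S)
    (h : CohIII.fiberRank f M 0 y ≤ 1) (v w : Γ(CohIII.fiberMod f M y, (⊤ : (f.fiber y).Opens))) (hv : v ≠ 0) :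
    ∃ c : S.residueField y, w = (show Γ(f.fiber y, (⊤ : (f.fiber y).Opens)) from
      Coh.toGlobal (X := f.fiber y) (A := S.residueField y) (f.fiberToSpecResidueField y) c) • v := by
  let Z := f.fiber y
  let N := CohIII.fiberMod f M y
  let e : Coh.HH Z N 0 ≃+ Γ(N, (⊤ : Z.Opens)) :=
    Sheaf.H.equiv₀ (Coh.toAb N) (T := (⊤ : Z.Opens)) isTerminalTop
  letI : Z.Over (Spec (CommRingCat.of (S.residueField y))) := ⟨f.fiberToSpecResidueField y⟩
  haveI : IsProper (Z ↘ Spec (CommRingCat.of (S.residueField y))) :=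
    MorphismProperty.pullback_snd f (S.fromSpecResidueField y) ‹IsProper f›
  haveI := Euler.isNoetherian_of_proper (X := Z) (S.residueField y)
  haveI := Euler.finiteDimensional_HH (S.residueField y)
    (Euler.isCoh_of_isInvertible (Ample.isInvertible_pullback (f.fiberι y) hM)) 0
  obtain ⟨c, hc⟩ : ∃ c : S.residueField y, c • e.symm v = e.symm w := by
    have hne : e.symm v ≠ 0 := by simpa using hv
    haveI : Nontrivial (Coh.HH Z N 0) := ⟨⟨_, _, hne⟩⟩
    have h1 : Module.finrank (S.residueField y) (Coh.HH Z N 0) = 1 :=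
      le_antisymm ((fiberRank_congr f M 0 y (Iso.refl _)).1 ▸ h) Module.finrank_pos
    exact (finrank_eq_one_iff_of_nonzero' _ hne).1 h1 (e.symm w)
  refine ⟨c, ?_⟩
  let a := Coh.toGlobal (X := Z) (A := S.residueField y) (f.fiberToSpecResidueField y) c
  have h2 : e (c • e.symm v) = (show Γ(Z, (⊤ : Z.Opens)) from a) • v := by
    refine ((Sheaf.H.equiv₀_naturality isTerminalTop (Coh.smulAb N a) (e.symm v)).symm.trans
      ((Coh.smulAb_app _ _ (op ⊤) _).trans ?_))
    have e2 : Coh.resTop Z (op ⊤) a = a := by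
      show (Z.ringCatSheaf.obj.map (𝟙 _)).hom _ = _
      rw [CategoryTheory.Functor.map_id]; rfl
    rw [e2]
    exact congrArg (fun t => (show Γ(Z, (⊤ : Z.Opens)) from a) • t) (e.apply_symm_apply v)
  rw [← h2, hc, e.apply_symm_apply]

variable (hdim : ∀ s : S, topologicalKrullDim ↥(f.fiber s) = 1)
  (hg : ∀ s : S, 1 ≤ CohIII.fiberRank f (Coh.structureModule C) 1 s)
  (x : S ⟶ C) (hx : x ≫ f = 𝟙 S) {L : C.Modules} (hL : PicF.IsInvertible L)
  (hLx : ClSub.IsInverseOf L (ClSub.idealMod x.ker))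

include hdim hx in
/-- The ideal of a section is effective Cartier. -/
theorem isEffCartier_section : _root_.BlowUp.IsEffCartierIdeal x.ker := by
  haveI := smoothOfRelativeDimension_one f hdim
  exact (Groth.Agent.S15990.result f x hx).1

include hdim hg hx hL hLx in
/-- The fibre rank of the bundle of a section is at most one. -/
theorem fiberRank_le_one (y : S) : CohIII.fiberRank f L 0 y ≤ 1 := by
  obtain ⟨h1, h2, h3, -⟩ := fiber_props f y
  letI : (f.fiber y).Over (Spec (CommRingCat.of (S.residueField y))) := ⟨f.fiberToSpecResidueField y⟩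
  haveI : IsProper (f.fiber y ↘ Spec (CommRingCat.of (S.residueField y))) := h1
  haveI : Smooth (f.fiber y ↘ Spec (CommRingCat.of (S.residueField y))) := h2
  haveI : GeometricallyConnected (f.fiber y ↘ Spec (CommRingCat.of (S.residueField y))) := h3
  have hgy : 1 ≤ Curv2.genus (S.residueField y) (f.fiber y) := (hg y).trans (fiberRank_structure f 1 y).le
  rw [(fiberRank_congr f L 0 y (Iso.refl _)).1]
  exact finrank_H0_le_one (S.residueField y) (hdim y) hgy (Ample.isInvertible_pullback _ hL)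
    (deg_fibre_eq_one f hdim x hx (IdealModSec.isInvertible_of_isEffCartier (isEffCartier_section f hdim x hx))
      hL hLx y)

omit [Smooth f] [GeometricallyConnected f] in
include hdim hx in
/-- Some point of every fibre is off the section. -/
theorem exists_fibre_notMem (y : S) : ∃ z : f.fiber y, f.fiberι y z ∉ (x.ker.support : Set C) := by
  haveI : IsClosedImmersion x := by
    haveI : IsClosedImmersion (x ≫ f) := by rw [hx]; infer_instance
    exact IsClosedImmersion.of_comp x f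
  by_contra! h
  haveI : Subsingleton ↥(f.fiber y) := by
    have key : ∀ z : f.fiber y, f.fiberι y z = x y := fun z => by
      have hz := h z
      rw [Scheme.Hom.support_ker, x.isClosedEmbedding.isClosed_range.closure_eq] at hz
      obtain ⟨s, hs⟩ := hz
      have h1 : f (f.fiberι y z) = y := (f.range_fiberι y).le ⟨z, rfl⟩
      rw [← hs, ← Scheme.Hom.comp_apply, hx] at h1
      rw [← hs, ← h1]
      rfl
    exact ⟨fun a b => (f.fiberι y).isEmbedding.injective ((key a).trans (key b).symm)⟩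
  have h0 : topologicalKrullDim ↥(f.fiber y) ≤ 0 := CurveMult.IdealCrit.dim_le_zero_of_finite
  rw [hdim y] at h0
  norm_num at h0

include hdim hx in
/-- The canonical section does not vanish on a fibre. -/
theorem pullRes_ne_zero (hL : PicF.IsInvertible L) {s : Γ(L, ⊤)} (hs : IsCanSec x.ker L s) (y : S)
    (U : S.Opens) (e' : f.fiberToSpecResidueField y ⁻¹ᵁ ⊤ ≤ f.fiberι y ⁻¹ᵁ (f ⁻¹ᵁ U)) :
    BCCoh.pullRes (f.fiberι y) L (f ⁻¹ᵁ U) (f.fiberToSpecResidueField y ⁻¹ᵁ ⊤) e'
      (mres L (le_top : f ⁻¹ᵁ U ≤ ⊤) s) ≠ 0 := by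
  intro h0
  obtain ⟨z, hz⟩ := exists_fibre_notMem f hdim x hx y
  have h1 : z ∈ VA.genOpen ((Scheme.Modules.pullback (f.fiberι y)).obj L)
      (BCCoh.pullRes (f.fiberι y) L (f ⁻¹ᵁ U) (f.fiberToSpecResidueField y ⁻¹ᵁ ⊤) e'
        (mres L (le_top : f ⁻¹ᵁ U ≤ ⊤) s)) :=
    (FibVA11.mem_genOpen_pullRes (f.fiberι y) hL e' _).2
      ⟨trivial, VA.mem_genOpen.2 ((VA.genAt_mres _ s).2 ⟨e' (show z ∈ f.fiberToSpecResidueField y ⁻¹ᵁ ⊤ from trivial),
        hs.genAt hz⟩)⟩
  rw [h0] at h1
  obtain ⟨W, hW, hzW, hgen⟩ := VA.mem_genOpen.1 h1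
  haveI : Nonempty W := ⟨⟨z, hzW⟩⟩
  refine zero_ne_one (α := Γ(f.fiber y, W)) ((hgen W le_rfl).1 ?_)
  simp [InvExt.mres, map_zero]

include hdim hg hx hL hLx in
/-- Base change holds in degree zero for the bundle of a section. -/
theorem epi_bc0 {s : Γ(L, ⊤)} (hs : IsCanSec x.ker L s) (y : S) :
    Epi (CohBC.bc0 f (S.fromSpecResidueField y) (f.fiberToSpecResidueField y) (f.fiberι y) (f.fiber_fac y) L) := by
  let κ := S.residueField y
  let fs := f.fiberToSpecResidueField y
  haveI : Subsingleton ↥(Spec κ) := inferInstanceAs (Subsingleton (PrimeSpectrum κ))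
  let b := CohBC.bc0 f (S.fromSpecResidueField y) fs (f.fiberι y) (f.fiber_fac y) L
  refine (BCCrit.epi_iff_surjective b (IsLocalRing.closedPoint κ)).2 fun w => ?_
  have e : (⊤ : (Spec κ).Opens) ≤ S.fromSpecResidueField y ⁻¹ᵁ (⊤ : S.Opens) := le_top
  have e' : fs ⁻¹ᵁ (⊤ : (Spec κ).Opens) ≤ (f.fiberι y) ⁻¹ᵁ (f ⁻¹ᵁ (⊤ : S.Opens)) := le_top
  let s₀ : Γ(L, f ⁻¹ᵁ (⊤ : S.Opens)) := mres L le_top s
  let v := BCCoh.pullRes (f.fiberι y) L (f ⁻¹ᵁ ⊤) (fs ⁻¹ᵁ ⊤) e' s₀
  have hv : v ≠ 0 := pullRes_ne_zero f hdim x hx hL hs y ⊤ e'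
  obtain ⟨c, hc⟩ := exists_smul_eq_of_finrank_le_one f L hL y (fiberRank_le_one f hdim hg x hx hL hLx y) v w hv
  let a : Γ(Spec κ, ⊤) := (Scheme.ΓSpecIso κ).inv c
  refine ⟨a • BCCoh.pullRes (S.fromSpecResidueField y) ((Scheme.Modules.pushforward f).obj L) ⊤ ⊤ e s₀, ?_⟩
  refine (Ample.app_smul b a _).trans ?_
  rw [BCCrit.bc0_pullRes (f.fiber_fac y) L ⊤ ⊤ e e' s₀]
  exact hc.symm

end GrothLib.SmCurveFam
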