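import Groth.Agent.Lib.SmCurveFam.Field
import Groth.Agent.Lib.FibreDimAt6.Smooth
import Groth.Agent.Lib.DimCut.Product
import Groth.Agent.Lib.CurveMult.OmegaCan
import Groth.Agent.Lib.BCCrit.Degree0
import Groth.Agent.Lib.BCCrit.DimBound
import Groth.Agent.Lib.BCCoh.FibreAffine
import Groth.Agent.Lib.Seesaw26.Functions
import Groth.Agent.Lib.Seesaw26.LocalGood
import Groth.Agent.Lib.Euler.Slope
import Groth.Agent.Lib.LocFree8.Basic

/-!
# Families of smooth curves
-/

set_option autoImplicit false
set_option linter.style.haveILetI false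
set_option backward.isDefEq.respectTransparency false
set_option maxHeartbeats 1000000

universe u

open CategoryTheory CategoryTheory.Limits AlgebraicGeometry TopologicalSpace Opposite
open GrothLib.InvExt (IsGen)

noncomputable section

namespace GrothLib.SmCurveFam

variable {C S : Scheme.{u}} (f : C ⟶ S) [IsProper f] [Smooth f] [GeometricallyConnected f]

theorem fiber_props (s : S) :
    IsProper (f.fiberToSpecResidueField s) ∧ Smooth (f.fiberToSpecResidueField s) ∧
      GeometricallyConnected (f.fiberToSpecResidueField s) ∧ IsIntegral (f.fiber s) := by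
  haveI : IsProper (f.fiberToSpecResidueField s) := MorphismProperty.pullback_snd f _ inferInstance
  haveI : Smooth (f.fiberToSpecResidueField s) := MorphismProperty.pullback_snd f _ inferInstance
  haveI : GeometricallyConnected (f.fiberToSpecResidueField s) := MorphismProperty.pullback_snd f _ inferInstance
  letI : (f.fiber s).Over (Spec (CommRingCat.of (S.residueField s))) := ⟨f.fiberToSpecResidueField s⟩
  haveI : IsProper (f.fiber s ↘ Spec (CommRingCat.of (S.residueField s))) := ‹IsProper (f.fiberToSpecResidueField s)›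
  haveI : Smooth (f.fiber s ↘ Spec (CommRingCat.of (S.residueField s))) := ‹Smooth (f.fiberToSpecResidueField s)›
  haveI : GeometricallyConnected (f.fiber s ↘ Spec (CommRingCat.of (S.residueField s))) :=
    ‹GeometricallyConnected (f.fiberToSpecResidueField s)›
  exact ⟨‹_›, ‹_›, ‹_›, (CurveMult.OmegaField.integral_and_h0 (S.residueField s) (f.fiber s)).1⟩

variable (hdim : ∀ s : S, topologicalKrullDim ↥(f.fiber s) = 1)

include hdim in
/-- A family of smooth curves is smooth of relative dimension one. -/
theorem smoothOfRelativeDimension_one : SmoothOfRelativeDimension 1 f := by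
  refine ⟨fun x => ?_⟩
  obtain ⟨U, hU, V, hV, hxV, e, hstd⟩ := Smooth.exists_isStandardSmooth f x
  refine ⟨U, hU, V, hV, hxV, e, ?_⟩
  haveI : Nonempty V := ⟨⟨x, hxV⟩⟩
  algebraize [(f.appLE U V e).hom]
  obtain ⟨ι, σ, hσ, hι, ⟨P⟩⟩ := (inferInstance : Algebra.IsStandardSmooth Γ(S, U) Γ(C, V)).out
  have hm : (f.appLE U V e).hom.IsStandardSmoothOfRelativeDimension P.dimension :=
    P.isStandardSmoothOfRelativeDimension rfl
  suffices hP : P.dimension = 1 by rw [← hP]; exact hm
  let g : (V : Scheme.{u}) ⟶ S := V.ι ≫ f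
  have hVtop : IsAffineOpen (⊤ : (V : Scheme.{u}).Opens) := by
    haveI : IsAffine (V : Scheme.{u}) := hV
    exact isAffineOpen_top _
  have hle : (⊤ : (V : Scheme.{u}).Opens) ≤ g ⁻¹ᵁ U := fun w _ => e (show V.ι w ∈ V from w.2)
  haveI : SmoothOfRelativeDimension P.dimension g := ⟨fun z => by
    refine ⟨U, hU, ⊤, hVtop, trivial, hle, ?_⟩
    have h1 : g.appLE U ⊤ hle = f.appLE U V e ≫ V.topIso.inv := by
      rw [Scheme.Hom.comp_appLE, Scheme.Opens.ι_appLE, Scheme.Opens.topIso_inv, Scheme.Hom.appLE, Category.assoc,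
        ← Functor.map_comp]
      rfl
    rw [h1]
    exact RingHom.isStandardSmoothOfRelativeDimension_respectsIso.1 _
      V.topIso.symm.commRingCatIsoToRingEquiv hm⟩
  let x' : (V : Scheme.{u}) := ⟨x, hxV⟩
  have h2 := FibreDimAt6.fibreDimAt_eq_of_smooth P.dimension g x'
  let s := g x'
  obtain ⟨-, hsm, -, hint⟩ := fiber_props f s
  let j : g.fiber s ⟶ f.fiber s :=
    pullback.map g (S.fromSpecResidueField s) f (S.fromSpecResidueField s) V.ι (𝟙 _) (𝟙 _)
      (by simp [g]) (by simp)
  haveI : IsOpenImmersion j := inferInstance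
  have hd : ∀ W : {W : Opens ↥(g.fiber s) // g.asFiber x' ∈ W},
      topologicalKrullDim (W.1 : Set ↥(g.fiber s)) = 1 := fun W => by
    have hne : Nonempty ↥(j ''ᵁ W.1) := ⟨⟨j (g.asFiber x'), ⟨_, W.2, rfl⟩⟩⟩
    rw [(j.isOpenEmbedding.isEmbedding.homeomorphImage (W.1 : Set ↥(g.fiber s))).isHomeomorph.topologicalKrullDim_eq]
    exact (DimCut.dim_opens_eq (f.fiberToSpecResidueField s) (j ''ᵁ W.1) hne).trans (hdim s)
  have h3 : FlatMor.fibreDimAt g x' = 1 := by
    haveI : Nonempty {W : Opens ↥(g.fiber s) // g.asFiber x' ∈ W} := ⟨⟨⊤, trivial⟩⟩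
    exact (iInf_congr hd).trans ciInf_const
  rw [h2] at h3
  exact_mod_cast h3

omit [IsProper f] [GeometricallyConnected f] in
/-- The differentials of a family of curves are invertible. -/
theorem isInvertible_omega [QuasiSeparated f] [SmoothOfRelativeDimension 1 f] :
    PicF.IsInvertible (Omega.sheaf f) := by
  haveI := OmegaSheaf.isQuasicoherent_sheaf f
  refine InvExt.isInvertible_of_gens fun x => ?_
  obtain ⟨U, hU, V, hV, hxV, e, hstd⟩ :=
    SmoothOfRelativeDimension.exists_isStandardSmoothOfRelativeDimension (n := 1) (f := f) x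
  letI := (f.appLE U V e).hom.toAlgebra
  haveI : Algebra.IsStandardSmoothOfRelativeDimension 1 Γ(S, U) Γ(C, V) := hstd
  haveI : Nonempty V := ⟨⟨x, hxV⟩⟩
  haveI : Algebra.IsStandardSmooth Γ(S, U) Γ(C, V) :=
    Algebra.IsStandardSmoothOfRelativeDimension.isStandardSmooth 1
  obtain ⟨ε⟩ := OmegaSheaf.nonempty_sections_equiv f hV hU e
  have hfr : Module.finrank Γ(C, V) (Ω[Γ(C, V)⁄Γ(S, U)]) = 1 :=
    Module.finrank_eq_of_rank_eq (Algebra.IsStandardSmoothOfRelativeDimension.rank_kaehlerDifferential 1)
  let b : Module.Basis (Fin 1) Γ(C, V) Γ(Omega.sheaf f, V) :=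
    (Module.finBasisOfFinrankEq Γ(C, V) _ hfr).map ε.symm
  refine ⟨V, b 0, hxV, CurveMult.OmegaCan.isGen_of_basis _ hV ⟨fun c d hcd => ?_, fun m => ⟨b.repr m 0, ?_⟩⟩⟩
  · have := congrArg (fun z => b.repr z 0) hcd
    simpa using this
  · show b.repr m 0 • b 0 = m
    rw [← Fin.sum_univ_one (fun i => b.repr m i • b i)]
    exact b.sum_repr m

omit [Smooth f] [GeometricallyConnected f] [IsProper f] in
/-- Fibre ranks through an isomorphism of fibre modules. -/
theorem fiberRank_congr (F : C.Modules) (p : ℕ) (s : S) {G : (f.fiber s).Modules}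
    (e : CohIII.fiberMod f F s ≅ G) :
    (letI : (f.fiber s).Over (Spec (S.residueField s)) := ⟨f.fiberToSpecResidueField s⟩;
      CohIII.fiberRank f F p s = Module.finrank (S.residueField s) (Coh.HH (f.fiber s) G p)) ∧
    (Subsingleton (CohIII.fiberH f F s p) ↔ Subsingleton (Coh.HH (f.fiber s) G p)) := by
  obtain ⟨d, hd⟩ := BCCoh.exists_hh_equiv (B := S.residueField s) (f.fiberToSpecResidueField s) e p
  refine ⟨?_, d.toEquiv.subsingleton_congr⟩
  letI := BCCoh.modHH (A := S.residueField s) (f.fiberToSpecResidueField s) G p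
  exact (d.toLinearEquiv hd).finrank_eq

omit [Smooth f] [GeometricallyConnected f] [IsProper f] in
/-- The fibre rank of the structure module is that of the fibre. -/
theorem fiberRank_structure (p : ℕ) (s : S) :
    letI : (f.fiber s).Over (Spec (S.residueField s)) := ⟨f.fiberToSpecResidueField s⟩
    CohIII.fiberRank f (Coh.structureModule C) p s =
      Module.finrank (S.residueField s) (Coh.HH (f.fiber s) (Coh.structureModule (f.fiber s)) p) :=
  (fiberRank_congr f _ p s (PicLoc.pullbackStructureIso _)).1

variable [SmoothOfRelativeDimension 1 f]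

omit [GeometricallyConnected f] in
/-- The powers of the relative differentials restrict to those of the fibre. -/
theorem nonempty_fiberMod_omegaPow (n : ℕ) (s : S) :
    Nonempty (CohIII.fiberMod f (CohB1.tensorPow (Omega.sheaf f) n) s ≅
      CohB1.tensorPow (Omega.sheaf (f.fiberToSpecResidueField s)) n) := by
  obtain ⟨a⟩ := Ample.nonempty_pullback_tensorPow (f.fiberι s) (isInvertible_omega f) n
  haveI : IsProper (f.fiberToSpecResidueField s) := MorphismProperty.pullback_snd f _ inferInstance
  obtain ⟨b⟩ := CurveMult.OmegaField.nonempty_pullback_omega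
    (IsPullback.of_hasPullback f (S.fromSpecResidueField s))
  suffices h : ∀ (L L' : (f.fiber s).Modules), (L ≅ L') →
      ∀ l : ℕ, Nonempty (CohB1.tensorPow L l ≅ CohB1.tensorPow L' l) by
    obtain ⟨c⟩ := h _ _ b n
    exact ⟨a ≪≫ c⟩
  intro L L' e l
  induction l with
  | zero => exact ⟨Iso.refl _⟩
  | succ l ih => exact ih.map fun g => Ample.LineData.tensorModMapIso g e

omit [GeometricallyConnected f] in
/-- The relative differentials restrict to those of the fibre. -/
theorem nonempty_fiberMod_omega (s : S) :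
    Nonempty (CohIII.fiberMod f (Omega.sheaf f) s ≅ Omega.sheaf (f.fiberToSpecResidueField s)) := by
  haveI : IsProper (f.fiberToSpecResidueField s) := MorphismProperty.pullback_snd f _ inferInstance
  exact CurveMult.OmegaField.nonempty_pullback_omega (IsPullback.of_hasPullback f (S.fromSpecResidueField s))

omit [GeometricallyConnected f] in
/-- The basic properties of the powers of the relative differentials. -/
theorem omegaPow_props (n : ℕ) :
    PicF.IsInvertible (CohB1.tensorPow (Omega.sheaf f) n) ∧ CohB1.IsFP (CohB1.tensorPow (Omega.sheaf f) n) ∧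
      Coh.IsQCoh (CohB1.tensorPow (Omega.sheaf f) n) ∧
      FlatMod.IsFlatOver f (CohB1.tensorPow (Omega.sheaf f) n) := by
  have h := Ample.isInvertible_tensorPow (isInvertible_omega f) n
  haveI := InvExt.isQuasicoherent_of_isInvertible h
  exact ⟨h, LocFree8.isFP_of_isFinLocFree _ (Euler.isFinLocFree_of_isInvertible h),
    InvExt.isQuasicoherent_of_isInvertible h, Seesaw26.isFlatOver_of_isInvertible f h⟩

omit [GeometricallyConnected f] in
/-- The basic properties of the structure module and the relative differentials. -/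
theorem omega_props :
    CohB1.IsFP (Omega.sheaf f) ∧ Coh.IsQCoh (Omega.sheaf f) ∧ FlatMod.IsFlatOver f (Omega.sheaf f) := by
  have h := isInvertible_omega f
  haveI := InvExt.isQuasicoherent_of_isInvertible h
  exact ⟨LocFree8.isFP_of_isFinLocFree _ (Euler.isFinLocFree_of_isInvertible h),
    InvExt.isQuasicoherent_of_isInvertible h, Seesaw26.isFlatOver_of_isInvertible f h⟩

end GrothLib.SmCurveFam
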