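import Groth.Agent.Lib.SmCurveFam.Family
import Groth.Agent.Lib.GlobalConst.Scheme
import Groth.Agent.Lib.Stein.FieldCase
import Groth.Agent.Lib.OmegaSheaf.Basic
import Groth.Agent.Lib.GrpSchField.Neron
import Groth.Agent.Lib.Euler.AmpleIff
import Groth.Agent.Lib.SecComp6.Smooth

/-!
# Smooth families of curves with irreducible, possibly geometrically disconnected, fibres
-/

set_option autoImplicit false
set_option linter.style.haveILetI false
set_option backward.isDefEq.respectTransparency false
set_option maxHeartbeats 1000000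

universe u

open CategoryTheory CategoryTheory.Limits AlgebraicGeometry TopologicalSpace Opposite
open GrothLib.CurveRR

noncomputable section

namespace GrothLib.SmCurveFam

/-- The differentials do not change under an etale change of base. -/
theorem nonempty_omega_comp_etale {X T S : Scheme.{u}} (a : X ⟶ T) (b : T ⟶ S) [Etale b]
    [QuasiSeparated (a ≫ b)] : Nonempty (Omega.sheaf (a ≫ b) ≅ Omega.sheaf a) := by
  let m := pullback.map a a (a ≫ b) (a ≫ b) (𝟙 X) (𝟙 X) b (Category.id_comp _).symm (Category.id_comp _).symm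
  haveI : IsOpenImmersion m :=
    MorphismProperty.of_isPullback (P := @IsOpenImmersion) (pullback_map_diagonal_isPullback a a b)
      (inferInstance : IsOpenImmersion (pullback.diagonal b))
  have hd : pullback.diagonal a ≫ m = pullback.diagonal (a ≫ b) := by
    apply pullback.hom_ext <;> simp [m]
  have H : IsPullback (pullback.diagonal a) (𝟙 X) m (pullback.diagonal (a ≫ b)) := by
    refine IsPullback.of_vert_isIso_mono ⟨?_⟩
    rw [hd, Category.id_comp]
  obtain ⟨e⟩ := OmegaSheaf.nonempty_pullback_conormal (pullback.diagonal (a ≫ b)) (pullback.diagonal a)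
    (𝟙 X) m H
  exact ⟨((Scheme.Modules.pullbackId X).app _).symm ≪≫ e⟩

variable (k : Type u) [Field k] {X : Scheme.{u}} [X.Over (Spec (CommRingCat.of k))] [IsIntegral X]
  [IsProper (X ↘ Spec (CommRingCat.of k))] [Smooth (X ↘ Spec (CommRingCat.of k))]

/-- The ampleness criterion over a field of constants. -/
theorem isAmple_omega_of_factor (L : Type u) [Field L] [Algebra k L] [Module.Finite k L]
    [Algebra.IsSeparable k L] (a : X ⟶ Spec (CommRingCat.of L))
    (hab : a ≫ Spec.map (CommRingCat.ofHom (algebraMap k L)) = X ↘ Spec (CommRingCat.of k))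
    [GeometricallyConnected a] (hdim : topologicalKrullDim X = 1)
    (hχ : Curv2.euler k X (Coh.structureModule X) < 0) :
    CohB1.IsAmple (Omega.sheaf (X ↘ Spec (CommRingCat.of k))) := by
  haveI : Algebra.FormallyEtale k L := Algebra.FormallyEtale.of_isSeparable k L
  haveI : Algebra.FinitePresentation k L := Algebra.FinitePresentation.of_finiteType.1 inferInstance
  haveI : Algebra.Etale k L := { }
  let b : Spec (CommRingCat.of L) ⟶ Spec (CommRingCat.of k) :=
    Spec.map (CommRingCat.ofHom (algebraMap k L))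
  haveI : Etale b := (HasRingHomProperty.Spec_iff (P := @Etale)).2 (RingHom.etale_algebraMap.2 inferInstance)
  haveI : Smooth (a ≫ b) := by rw [hab]; infer_instance
  haveI : IsProper (a ≫ b) := by rw [hab]; infer_instance
  haveI : Smooth a := GrpSchField.smooth_of_comp_etale a b ‹_›
  haveI : IsProper a := IsProper.of_comp a b
  letI oL : X.Over (Spec (CommRingCat.of L)) := ⟨a⟩
  haveI : IsProper (X ↘ Spec (CommRingCat.of L)) := ‹IsProper a›
  haveI : Smooth (X ↘ Spec (CommRingCat.of L)) := ‹Smooth a›
  haveI : GeometricallyConnected (X ↘ Spec (CommRingCat.of L)) := ‹GeometricallyConnected a›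
  obtain ⟨-, h0⟩ := CurveMult.OmegaField.integral_and_h0 L X
  haveI := regCurve_of_smooth (X ↘ Spec (CommRingCat.of L)) hdim
  have hg0 : ∀ r : k, Coh.toGlobal a (algebraMap k L r) = Coh.toGlobal (X ↘ Spec (CommRingCat.of k)) r := by
    intro r
    refine Eq.trans ?_ (congrArg (fun φ => Coh.toGlobal φ r) hab)
    show a.appTop.hom ((Scheme.ΓSpecIso (CommRingCat.of L)).inv.hom (algebraMap k L r)) =
      (a ≫ b).appTop.hom ((Scheme.ΓSpecIso (CommRingCat.of k)).inv.hom r)
    rw [Scheme.Hom.comp_appTop]
    show _ = a.appTop.hom (b.appTop.hom ((Scheme.ΓSpecIso (CommRingCat.of k)).inv.hom r))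
    exact congrArg a.appTop.hom (ConcreteCategory.congr_hom
      (Scheme.ΓSpecIso_inv_naturality (CommRingCat.ofHom (algebraMap k L))) r)
  have hmul : ∀ p, Module.finrank k L * Module.finrank L (Coh.HH X (Coh.structureModule X) p) =
      Module.finrank k (Coh.HH X (Coh.structureModule X) p) := fun p => by
    haveI : IsScalarTower k L (Coh.HH X (Coh.structureModule X) p) :=
      IsScalarTower.of_algebraMap_smul fun r x => by
        show Coh.toGlobal a (algebraMap k L r) • x = Coh.toGlobal (X ↘ Spec (CommRingCat.of k)) r • x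
        rw [hg0]
    exact Module.finrank_mul_finrank k L _
  have hχ' : Module.finrank k (Coh.HH X (Coh.structureModule X) 0) < Curv2.genus k X := by
    have := Euler.euler_structure (X := X) k hdim.le
    omega
  have hg : 2 ≤ Curv2.genus L X := by
    have h1 := hmul 1
    have h2 := hmul 0
    rw [h0, mul_one] at h2
    change Module.finrank k L * Curv2.genus L X = Curv2.genus k X at h1
    by_contra hlt
    have : Module.finrank k L * Curv2.genus L X ≤ Module.finrank k L * 1 :=
      Nat.mul_le_mul le_rfl (by omega)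
    omega
  obtain ⟨-, hd⟩ := CurveMult.OmegaField.finrank_deg_omega L hdim h0
  obtain ⟨e⟩ : Nonempty (Omega.sheaf (X ↘ Spec (CommRingCat.of k)) ≅ Omega.sheaf a) := by
    rw [← hab]; exact nonempty_omega_comp_etale a b
  refine (Ample.isAmple_iff_of_iso e).2 ?_
  exact (Euler.isAmple_iff_deg_pos L hdim (CurveMult.OmegaField.isInvertible L)).2 (by rw [hd]; omega)

/-- Negative Euler characteristic makes the differentials of an integral smooth proper curve ample. -/
theorem isAmple_omega_of_euler (hdim : topologicalKrullDim X = 1)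
    (hχ : Curv2.euler k X (Coh.structureModule X) < 0) :
    CohB1.IsAmple (Omega.sheaf (X ↘ Spec (CommRingCat.of k))) := by
  haveI : Nonempty (⊤ : X.Opens) := ⟨⟨genericPoint X, trivial⟩⟩
  have hF : IsField Γ(X, ⊤) := isField_of_universallyClosed k (X ↘ Spec (CommRingCat.of k))
  letI := GlobalConst.algΓ k (X := X)
  haveI := SecComp6.geometricallyReduced_of_smooth (X ↘ Spec (CommRingCat.of k))
  haveI := GlobalConst.finite_algΓ k (X := X)
  haveI := GlobalConst.isSeparable_algΓ k hF
  letI := hF.toField
  haveI : IsSeparated (Spec.map (CommRingCat.ofHom (algebraMap k Γ(X, ⊤)))) := inferInstance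
  have hab : X.toSpecΓ ≫ Spec.map (CommRingCat.ofHom (algebraMap k Γ(X, ⊤))) =
      X ↘ Spec (CommRingCat.of k) := (CurveRR.eq_toSpecΓ k (X ↘ Spec (CommRingCat.of k))).symm
  haveI : IsProper (X.toSpecΓ ≫ Spec.map (CommRingCat.ofHom (algebraMap k Γ(X, ⊤)))) := by
    rw [hab]; infer_instance
  haveI : IsProper X.toSpecΓ := IsProper.of_comp _ (Spec.map (CommRingCat.ofHom (algebraMap k Γ(X, ⊤))))
  haveI := Stein.geometricallyConnected_toSpecΓ X
  exact isAmple_omega_of_factor k Γ(X, ⊤) X.toSpecΓ hab hdim hχ

/-- A smooth irreducible scheme over a field is integral. -/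
theorem isIntegral_of_smooth_irreducible {K : Type u} [Field K] {Z : Scheme.{u}}
    (q : Z ⟶ Spec (CommRingCat.of K)) [Smooth q] [IrreducibleSpace Z] : IsIntegral Z := by
  haveI := SecComp6.geometricallyReduced_of_smooth q
  have hid : Spec.map (CommRingCat.ofHom (RingHom.id K)) = 𝟙 (Spec (CommRingCat.of K)) := Spec.map_id _
  haveI : IsIso (Spec.map (CommRingCat.ofHom (RingHom.id K))) := by rw [hid]; infer_instance
  haveI : IsReduced Z := GeometricallyReduced.geometrically_isReduced (f := q)
    (Spec.map (CommRingCat.ofHom (RingHom.id K))) (𝟙 Z) q (IsPullback.of_horiz_isIso ⟨by rw [hid]; simp⟩)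
  exact isIntegral_of_irreducibleSpace_of_isReduced Z

section Family

variable {C S : Scheme.{u}} (f : C ⟶ S) [Smooth f]

/-- A smooth family with integral one-dimensional fibres has relative dimension one. -/
theorem smoothOfRelativeDimension_one_of_integral (hint : ∀ s : S, IsIntegral (f.fiber s))
    (hdim : ∀ s : S, topologicalKrullDim ↥(f.fiber s) = 1) : SmoothOfRelativeDimension 1 f := by
  refine ⟨fun x => ?_⟩
  obtain ⟨U, hU, V, hV, hxV, e, hstd⟩ := Smooth.exists_isStandardSmooth f x
  refine ⟨U, hU, V, hV, hxV, e, ?_⟩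
  haveI : Nonempty V := ⟨⟨x, hxV⟩⟩
  algebraize [(f.appLE U V e).hom]
  obtain ⟨ι, σ, hσ, hι, ⟨P⟩⟩ := (inferInstance : Algebra.IsStandardSmooth Γ(S, U) Γ(C, V)).out
  have hm : (f.appLE U V e).hom.IsStandardSmoothOfRelativeDimension P.dimension :=
    P.isStandardSmoothOfRelativeDimension rfl
  suffices hP : P.dimension = 1 by rw [← hP]; exact hm
  let g : (V : Scheme.{u}) ⟶ S := V.ι ≫ f
  have hVtop : IsAffineOpen (⊤ : (V : Scheme.{u}).Opens) := by
    haveI : IsAffine (V : Scheme.{u}) := hV
    exact isAffineOpen_top _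
  have hle : (⊤ : (V : Scheme.{u}).Opens) ≤ g ⁻¹ᵁ U := fun w _ => e (show V.ι w ∈ V from w.2)
  haveI : SmoothOfRelativeDimension P.dimension g := ⟨fun z => by
    refine ⟨U, hU, ⊤, hVtop, trivial, hle, ?_⟩
    have h1 : g.appLE U ⊤ hle = f.appLE U V e ≫ V.topIso.inv := by
      rw [Scheme.Hom.comp_appLE, Scheme.Opens.ι_appLE, Scheme.Opens.topIso_inv, Scheme.Hom.appLE, Category.assoc,
        ← Functor.map_comp]
      rfl
    rw [h1]
    exact RingHom.isStandardSmoothOfRelativeDimension_respectsIso.1 _
      V.topIso.symm.commRingCatIsoToRingEquiv hm⟩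
  let x' : (V : Scheme.{u}) := ⟨x, hxV⟩
  have h2 := FibreDimAt6.fibreDimAt_eq_of_smooth P.dimension g x'
  let s := g x'
  haveI := hint s
  haveI : Smooth (f.fiberToSpecResidueField s) := MorphismProperty.pullback_snd f _ inferInstance
  let j : g.fiber s ⟶ f.fiber s :=
    pullback.map g (S.fromSpecResidueField s) f (S.fromSpecResidueField s) V.ι (𝟙 _) (𝟙 _)
      (by simp [g]) (by simp)
  haveI : IsOpenImmersion j := inferInstance
  have hd : ∀ W : {W : Opens ↥(g.fiber s) // g.asFiber x' ∈ W},
      topologicalKrullDim (W.1 : Set ↥(g.fiber s)) = 1 := fun W => by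
    have hne : Nonempty ↥(j ''ᵁ W.1) := ⟨⟨j (g.asFiber x'), ⟨_, W.2, rfl⟩⟩⟩
    rw [(j.isOpenEmbedding.isEmbedding.homeomorphImage (W.1 : Set ↥(g.fiber s))).isHomeomorph.topologicalKrullDim_eq]
    exact (DimCut.dim_opens_eq (f.fiberToSpecResidueField s) (j ''ᵁ W.1) hne).trans (hdim s)
  have h3 : FlatMor.fibreDimAt g x' = 1 := by
    haveI : Nonempty {W : Opens ↥(g.fiber s) // g.asFiber x' ∈ W} := ⟨⟨⊤, trivial⟩⟩
    exact (iInf_congr hd).trans ciInf_const
  rw [h2] at h3
  exact_mod_cast h3

end Family

end GrothLib.SmCurveFam
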